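import Groth.Agent.Resolve.K374.PtFib
import Groth.Agent.S0042
import Groth.Agent.S0032
import Groth.Agent.Localalg.VanTors
import Groth.Agent.CurvesC.ModDim
import Groth.Agent.Pi1C.PuncturedNormal

/-!
# Basic facts on modifications `f : X ⟶ Spec A`, `A` local Noetherian of dimension two

* `subsingleton_HH_of_isCoh`, `subsingleton_HH` : `H^p(X, F) = 0` for `p ≥ 2`, `F` quasi-coherent.
* `isIso_app` : `f_* O_X = O_S` if `A` is normal.
-/

set_option autoImplicit false
universe u
open CategoryTheory CategoryTheory.Limits AlgebraicGeometry TopologicalSpace Opposite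

namespace K374.ModBasic

open Groth.Agent.CurvesC.ModDim K374.PtFib K374.FibreComp

section Vanish

variable {A : Type u} [CommRing A] [IsDomain A] [IsLocalRing A] [IsNoetherianRing A]
  (hdim : ringKrullDim A = 2) {X : Scheme.{u}} (f : X ⟶ Spec (CommRingCat.of A)) [IsProper f] [IsIntegral X]
  (hbir : ∃ U : (Spec (CommRingCat.of A)).Opens, (U : Set (Spec (CommRingCat.of A))).Nonempty ∧ IsIso (f ∣_ U))

omit [IsDomain A] [IsIntegral X] [IsLocalRing A] in
include f in
theorem isNoetherian : IsNoetherian X := by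
  have : IsLocallyNoetherian X := LocallyOfFiniteType.isLocallyNoetherian f
  have : CompactSpace X := QuasiCompact.compactSpace_of_compactSpace f
  exact {}

/-- A sheaf on the spectrum of a local ring with zero stalk at the closed point has no global sections. -/
theorem subsingleton_top_of_isZero_stalk {A : Type u} [CommRing A] [IsLocalRing A]
    (G : Sheaf (Opens.grothendieckTopology (Spec (CommRingCat.of A))) AddCommGrpCat.{u})
    (h : IsZero (TopCat.Presheaf.stalk G.obj (IsLocalRing.closedPoint A : Spec (CommRingCat.of A)))) :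
    Subsingleton (G.obj.obj (op ⊤)) := by
  constructor
  intro s t
  have hs := AddCommGrpCat.subsingleton_of_isZero h
  have h1 := Subsingleton.elim (TopCat.Presheaf.germ G.obj ⊤ (IsLocalRing.closedPoint A) trivial s)
    (TopCat.Presheaf.germ G.obj ⊤ (IsLocalRing.closedPoint A) trivial t)
  obtain ⟨W, hW, iU, iV, h2⟩ := TopCat.Presheaf.germ_eq G.obj _ _ _ _ _ h1
  have hWtop : W = ⊤ := eq_top_of_closedPoint_mem hW
  subst hWtop
  have h3 : G.obj.map iU.op = 𝟙 _ := by
    rw [show iU.op = 𝟙 _ from Subsingleton.elim _ _]; exact G.obj.map_id _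
  have h4 : G.obj.map iV.op = 𝟙 _ := by
    rw [show iV.op = 𝟙 _ from Subsingleton.elim _ _]; exact G.obj.map_id _
  rw [h3, h4] at h2
  exact h2

include hdim f hbir in
theorem subsingleton_HH_of_isCoh (F : X.Modules) (hF : Coh.IsCoh F) (p : ℕ) (hp : 2 ≤ p) :
    Subsingleton (Coh.HH X F p) := by
  have : Coh.IsQCoh F := hF.1
  obtain ⟨U, hU, hfU⟩ := hbir
  obtain ⟨e⟩ := Groth.Agent.S0032.result f F p
  have hd : topologicalKrullDim (f.fiber (IsLocalRing.closedPoint A)) ≤ ((1 : ℕ) : WithBot ℕ∞) :=
    topologicalKrullDim_fiber_le 1 (by rw [hdim]; rfl) f U hU (IsLocalRing.closedPoint A) rfl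
  have h0 := Groth.Agent.S0042.result f (IsLocalRing.closedPoint A) 1 hd F hF p (by omega)
  have := subsingleton_top_of_isZero_stalk _ h0
  exact e.toEquiv.subsingleton

include hdim f hbir in
theorem subsingleton_HH (F : X.Modules) (hF : Coh.IsQCoh F) (p : ℕ) (hp : 2 ≤ p) :
    Subsingleton (Coh.HH X F p) := by
  obtain ⟨q, rfl⟩ : ∃ q, p = q + 1 := ⟨p - 1, by omega⟩
  have := isNoetherian f
  have : X.IsSeparated := by
    rw [Scheme.isSeparated_iff, ← Limits.terminal.comp_from f]
    infer_instance
  exact Groth.Agent.Localalg.VanTors.subsingleton_HH_of_sub q F hF fun G i _ hG =>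
    subsingleton_HH_of_isCoh hdim f hbir G hG _ hp

end Vanish

section App

variable {A : Type u} [CommRing A] [IsDomain A] [IsLocalRing A] [IsNoetherianRing A] [IsIntegrallyClosed A]
  (hdim : ringKrullDim A = 2) {X : Scheme.{u}} (f : X ⟶ Spec (CommRingCat.of A)) [IsProper f] [IsIntegral X]
  (hbir : ∃ U : (Spec (CommRingCat.of A)).Opens, (U : Set (Spec (CommRingCat.of A))).Nonempty ∧ IsIso (f ∣_ U))

theorem punctured_eq : punctured A = FEt.puncturedSpec A := rfl

theorem isIso_map_punctured (hdim : ringKrullDim A = 2) :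
    IsIso ((Spec (CommRingCat.of A)).presheaf.map (homOfLE (le_top : punctured A ≤ ⊤)).op) := by
  have h1 := Groth.Agent.Pi1C.PuncturedNormal.isIso_appTop_puncturedSpec (A := A) (by rw [hdim])
  have h2 : (FEt.puncturedSpec A).ι.appTop ≫ (FEt.puncturedSpec A).topIso.hom =
      (Spec (CommRingCat.of A)).presheaf.map (homOfLE (le_top : punctured A ≤ ⊤)).op := by
    rw [Scheme.Opens.ι_appTop, Scheme.Opens.topIso_hom]
    exact ((Spec (CommRingCat.of A)).presheaf.map_comp _ _).symm
  rw [← h2]
  exact @IsIso.comp_isIso _ _ _ _ _ _ _ h1 inferInstance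

omit [IsNoetherianRing A] [IsIntegrallyClosed A] in
theorem punctured_nonempty (hdim : ringKrullDim A = 2) : (⟨⊥, Ideal.isPrime_bot⟩ : PrimeSpectrum A) ∈ punctured A := by
  intro h0
  have h1 : IsField A := by
    rw [IsLocalRing.isField_iff_maximalIdeal_eq]
    exact (congrArg PrimeSpectrum.asIdeal h0).symm
  rw [ringKrullDim_eq_zero_of_isField h1] at hdim
  exact absurd hdim (by decide)

include hdim hbir in
theorem isIso_appTop : IsIso (f.app ⊤) := by
  have hpun := isIso_punctured f hdim hbir
  have h1 : IsIso (f.app (punctured A)) := isIso_app_of_isIso_morphismRestrict f (punctured A)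
  have h2 := isIso_map_punctured (A := A) hdim
  let V := f ⁻¹ᵁ (punctured A)
  have hVne : Nonempty V := by
    have : IsIso (f ∣_ punctured A) := hpun
    exact ⟨(inv (f ∣_ punctured A)).base ⟨_, punctured_nonempty hdim⟩⟩
  have h3 : f.app ⊤ ≫ X.presheaf.map (homOfLE (le_top : V ≤ ⊤)).op =
      (Spec (CommRingCat.of A)).presheaf.map (homOfLE (le_top : punctured A ≤ ⊤)).op ≫ f.app (punctured A) := by
    rw [Scheme.Hom.naturality]
    rfl
  have hinj : Function.Injective (X.presheaf.map (homOfLE (le_top : V ≤ ⊤)).op) := by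
    have : Nonempty (⊤ : X.Opens) := ⟨⟨hVne.some.1, trivial⟩⟩
    exact map_injective_of_isIntegral X (homOfLE (le_top : V ≤ ⊤))
  have hiso : IsIso (f.app ⊤ ≫ X.presheaf.map (homOfLE (le_top : V ≤ ⊤)).op) := by
    rw [h3]; infer_instance
  have hb := (ConcreteCategory.isIso_iff_bijective _).1 hiso
  rw [ConcreteCategory.isIso_iff_bijective]
  constructor
  · intro a b hab
    exact hb.1 (congrArg (X.presheaf.map (homOfLE (le_top : V ≤ ⊤)).op) hab)
  · intro s
    obtain ⟨a, ha⟩ := hb.2 (X.presheaf.map (homOfLE (le_top : V ≤ ⊤)).op s)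
    exact ⟨a, hinj ha⟩

include hdim hbir in
/-- `f_* O_X = O_S` for a modification of a normal local domain of dimension two. -/
theorem isIso_app (V : (Spec (CommRingCat.of A)).Opens) : IsIso (f.app V) := by
  have hpun := isIso_punctured f hdim hbir
  by_cases hV : (IsLocalRing.closedPoint A : Spec (CommRingCat.of A)) ∈ V
  · have : V = ⊤ := eq_top_of_closedPoint_mem hV
    subst this
    exact isIso_appTop hdim f hbir
  · have hle : V ≤ punctured A := fun x hx h => hV (h ▸ hx)
    have := isIso_morphismRestrict_of_le f hle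
    exact isIso_app_of_isIso_morphismRestrict f V

end App

end K374.ModBasic
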