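import Groth.Agent.LoccohB.GorDual

/-!
# Duality in `D(A)`: `Hom(κ[j-n], K) = 0` and `Hom(K, ω[i]) = 0` for `i > j` imply `Hom(K, ω[j]) = 0`
-/

set_option autoImplicit false
universe u

open CategoryTheory CategoryTheory.Limits CochainComplex CochainComplex.HomComplex Opposite

attribute [local instance] HasDerivedCategory.standard

namespace K374.GD

open DerivedCategory Groth.Agent Groth.Agent.LoccohB Groth.Agent.LoccohB.HomCx Groth.Agent.LoccohB.DBase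
  Groth.Agent.LoccohB.GorNak Groth.Agent.LoccohB.BidualD Groth.Agent.LoccohB.HomCxHD
  Groth.Agent.LoccohB.GorDual

variable {A : Type u} [CommRing A]

/-- `H^i(Hom•(X, I)) ≃ Hom(X, I[i])`. -/
noncomputable def zEquiv (X I : DRing.Cx A) [I.IsKInjective] (i : ℤ) :
    Dual.HD A (DRing.toD (DRing.homCx X I)) i ≃ₗ[A] (Q.obj X ⟶ (Q.obj I)⟦i⟧) :=
  hdEquiv _ i ≪≫ₗ homologyEquiv _ _ i (computes_of_isKInjective _ _)

variable (κ : Type u) [AddCommGroup κ] [Module A κ]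

/-- The dual of `κ[-j]` is `κ[-(n - j)]`. -/
theorem nonempty_dual_sg (I : DRing.Cx A) [I.IsKInjective] (ω : Dual.D A) (eI : DRing.toD I ≅ ω) (n : ℤ)
    (hn0 : ∀ i : ℤ, i ≠ n → Subsingleton (Dual.inD A κ ⟶ ω⟦i⟧))
    (en : (Dual.inD A κ ⟶ ω⟦n⟧) ≃ₗ[A] κ) (j : ℤ) :
    Nonempty (Q.obj (DRing.homCx (sgCx A j κ) I) ≅ sg A (n - j) κ) := by
  have e1 : ∀ i k : ℤ, i + j = k →
      Nonempty (Dual.HD A (Q.obj (DRing.homCx (sgCx A j κ) I)) i ≃ₗ[A]
        (Dual.inD A κ ⟶ ω⟦k⟧)) := fun i k h =>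
    ⟨homologySgEquiv κ I i j k h ≪≫ₗ
      Linear.homCongr A (Iso.refl _) ((CategoryTheory.shiftFunctor (Dual.D A) k).mapIso eI)⟩
  have e2 : ∀ i : ℤ, i ≠ n - j →
      IsZero ((homologyFunctor (ModuleCat.{u} A) i).obj (Q.obj (DRing.homCx (sgCx A j κ) I))) := by
    intro i hi
    obtain ⟨e⟩ := e1 i (i + j) rfl
    have := hn0 (i + j) (by lia)
    exact ModuleCat.isZero_iff_subsingleton.2 (e.toEquiv.subsingleton_congr.2 this)
  have hGE : (Q.obj (DRing.homCx (sgCx A j κ) I)).IsGE (n - j) := by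
    rw [DerivedCategory.isGE_iff]
    exact fun i hi => e2 i hi.ne
  have hLE : (Q.obj (DRing.homCx (sgCx A j κ) I)).IsLE (n - j) := by
    rw [DerivedCategory.isLE_iff]
    exact fun i hi => e2 i hi.ne'
  obtain ⟨e⟩ := Devissage.nonempty_iso_single (Q.obj (DRing.homCx (sgCx A j κ) I)) (n - j)
  obtain ⟨e'⟩ := e1 (n - j) n (by lia)
  exact ⟨e ≪≫ (DerivedCategory.singleFunctor (ModuleCat.{u} A) (n - j)).mapIso (e' ≪≫ₗ en).toModuleIso⟩

variable [IsLocalRing A] [IsNoetherianRing A] [IsSimpleModule A κ]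

/-- If `Hom(K, ω[i]) = 0` for `i > j` and `Hom(κ[j-n], K) = 0` then `Hom(K, ω[j]) = 0`. -/
theorem subsingleton_hom (ω : Dual.D A) (hω : Dual.IsDualizing A ω) (n : ℤ)
    (hn0 : ∀ i : ℤ, i ≠ n → Subsingleton (Dual.inD A κ ⟶ ω⟦i⟧))
    (en : (Dual.inD A κ ⟶ ω⟦n⟧) ≃ₗ[A] κ) (K : Dual.D A) (hK : ∀ i, Module.Finite A (Dual.HD A K i)) (j : ℤ)
    (h : ∀ i, j < i → Subsingleton (K ⟶ ω⟦i⟧)) (hκ : Subsingleton (sg A (n - j) κ ⟶ K)) :
    Subsingleton (K ⟶ ω⟦j⟧) := by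
  obtain ⟨I, a, b, hI, ⟨eI⟩⟩ := exists_model ω hω
  have hKI := hI.isKInjective
  let X := Q.objPreimage K
  let eX : Q.obj X ≅ K := Q.objObjPreimageIso K
  let Z : Dual.D A := DRing.toD (DRing.homCx X I)
  have eZ : ∀ i : ℤ, Nonempty (Dual.HD A Z i ≃ₗ[A] (K ⟶ ω⟦i⟧)) := fun i =>
    ⟨zEquiv X I i ≪≫ₗ Linear.homCongr A eX ((CategoryTheory.shiftFunctor (Dual.D A) i).mapIso eI)⟩
  have hLE : Z.IsLE j := by
    rw [DerivedCategory.isLE_iff]
    intro i hi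
    obtain ⟨e⟩ := eZ i
    exact ModuleCat.isZero_iff_subsingleton.2 (e.toEquiv.subsingleton_congr.2 (h i hi))
  have hfX : ∀ i, Module.Finite A (X.homology i) := fun i =>
    have := hK i
    Module.Finite.equiv (((DerivedCategory.homologyFunctor (ModuleCat.{u} A) i).mapIso eX).toLinearEquiv.symm ≪≫ₗ
      hdEquiv X i)
  have hfZ : Module.Finite A (Dual.HD A Z j) := by
    have := hI.finite_homology_homCx X hfX j
    exact Module.Finite.equiv (hdEquiv _ j).symm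
  have hev := hI.quasiIso_ev X hfX
  have hev' : IsIso (Q.map (ev X I)) := (isIso_Q_map_iff _).2 hev
  obtain ⟨ej⟩ := eZ j
  refine ej.symm.toEquiv.subsingleton_congr.2 ?_
  refine subsingleton_HD_of_hom κ Z j hfZ ?_
  obtain ⟨e1⟩ := nonempty_dual_sg κ I ω eI n hn0 en (n - j)
  let e2 : Q.obj (DRing.homCx (sgCx A (n - j) κ) I) ≅ sg A j κ :=
    e1 ≪≫ eqToIso (by rw [show n - (n - j) = j by lia])
  have h1 : Subsingleton (Q.obj (sgCx A (n - j) κ) ⟶ Q.obj (DRing.homCx (DRing.homCx X I) I)) := by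
    let e3 : (sg A (n - j) κ ⟶ K) ≃ₗ[A] (Q.obj (sgCx A (n - j) κ) ⟶ Q.obj (DRing.homCx (DRing.homCx X I) I)) :=
      Linear.homCongr A (qSg κ (n - j)).symm (eX.symm ≪≫ asIso (Q.map (ev X I)))
    exact e3.symm.toEquiv.subsingleton_congr.2 hκ
  have h2 : Subsingleton (Z ⟶ Q.obj (DRing.homCx (sgCx A (n - j) κ) I)) :=
    (transp I (DRing.homCx X I) (sgCx A (n - j) κ)).toEquiv.subsingleton_congr.2 h1
  let e4 : (Z ⟶ Q.obj (DRing.homCx (sgCx A (n - j) κ) I)) ≃ₗ[A] (Z ⟶ sg A j κ) :=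
    Linear.homCongr A (Iso.refl _) e2
  exact e4.symm.toEquiv.subsingleton_congr.2 h2

end K374.GD
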