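import Groth.Agent.LoccohB.CMDual
import Groth.Agent.LoccohB.DQCohBasic
import Groth.Agent.S0366
import Groth.Agent.Resolve.K374.GD

/-!
# The dualizing module of a two-dimensional local domain
-/

set_option autoImplicit false
universe u

open CategoryTheory CategoryTheory.Limits

attribute [local instance] HasDerivedCategory.standard

namespace K374.OmegaA

open DerivedCategory Groth.Agent Groth.Agent.LoccohB Groth.Agent.LoccohB.DualShift Groth.Agent.LoccohB.DBase
  Groth.Agent.LoccohB.GorNak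

variable {A : Type u} [CommRing A] [IsDomain A] [IsLocalRing A] [IsNoetherianRing A]
  (hdim : ringKrullDim A = 2) {ωA : Type u} [AddCommGroup ωA] [Module A ωA]
  (hω : Dual.IsDualizing A (Dual.inD A ωA))

omit [IsDomain A] [IsLocalRing A] [IsNoetherianRing A] in
theorem subsingleton_HD_inD (M : Type u) [AddCommGroup M] [Module A M] (i : ℤ) (hi : i ≠ 0) :
    Subsingleton (Dual.HD A (Dual.inD A M) i) := by
  rw [← ModuleCat.isZero_iff_subsingleton]
  rcases lt_or_gt_of_ne hi with hi | hi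
  · exact isZero_of_isGE _ 0 i hi
  · exact isZero_of_isLE _ 0 i hi

include hdim hω in
/-- The shift making the dualizing module normalized is the dimension. -/
theorem eq_two (n : ℤ) (h : ∀ i : ℤ, i ≠ n →
    Subsingleton (Dual.inD A (IsLocalRing.ResidueField A) ⟶ (Dual.inD A ωA)⟦i⟧)) : n = 2 := by
  have h1 := isDualizing_shift _ hω n
  have h2 := isNormalized_shift _ n h
  have hd : ringKrullDim A = ((2 : ℕ) : WithBot ℕ∞) := hdim
  obtain ⟨p, hp, hpd⟩ := CMDual.exists_minimalPrime_dim_eq A 2 hd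
  have h3 := (S1719.result A _ h1 h2 p hp 2 hpd (-((2 : ℕ) : ℤ))).2 rfl
  have h4 : Nontrivial (Dual.HD A ((Dual.inD A ωA)⟦n⟧) (-((2 : ℕ) : ℤ))) := by
    by_contra hc
    rw [not_nontrivial_iff_subsingleton] at hc
    have : Subsingleton (LocalizedModule (Ideal.primeCompl p (hp := hp.1.1))
      (Dual.HD A ((Dual.inD A ωA)⟦n⟧) (-((2 : ℕ) : ℤ)))) := inferInstance
    exact not_nontrivial_iff_subsingleton.2 this h3
  have h5 : Nontrivial (Dual.HD A (Dual.inD A ωA) (n + (-((2 : ℕ) : ℤ)))) :=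
    (shiftHD (Dual.inD A ωA) n (-((2 : ℕ) : ℤ)) _ rfl).toLinearEquiv.toEquiv.nontrivial_congr.1 h4
  by_contra hn
  exact not_nontrivial_iff_subsingleton.2 (subsingleton_HD_inD ωA _ (by lia)) h5

include hdim hω in
/-- `Ext^i(κ, ω)`. -/
theorem ext_kappa : (∀ i : ℤ, i ≠ 2 →
    Subsingleton (Dual.inD A (IsLocalRing.ResidueField A) ⟶ (Dual.inD A ωA)⟦i⟧)) ∧
    Nonempty ((Dual.inD A (IsLocalRing.ResidueField A) ⟶ (Dual.inD A ωA)⟦(2 : ℤ)⟧) ≃ₗ[A]
      IsLocalRing.ResidueField A) := by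
  obtain ⟨n, h, ⟨e⟩⟩ := S0364.result A (Dual.inD A ωA) hω (IsLocalRing.maximalIdeal A)
  obtain rfl := eq_two hdim hω n h
  exact ⟨h, ⟨e⟩⟩

include hdim hω in
theorem normalized : Dual.IsDualizing A ((Dual.inD A ωA)⟦(2 : ℤ)⟧) ∧
    Dual.IsNormalized A ((Dual.inD A ωA)⟦(2 : ℤ)⟧) :=
  ⟨isDualizing_shift _ hω 2, isNormalized_shift _ 2 (ext_kappa hdim hω).1⟩

omit [IsDomain A] [IsNoetherianRing A] in
theorem exists_supportDim (M : Type u) [AddCommGroup M] [Module A M] [Module.Finite A M] [Nontrivial M]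
    [IsNoetherianRing A] : ∃ d : ℕ, Module.supportDim A M = d := by
  have h1 : Module.supportDim A M ≠ ⊥ := Module.supportDim_ne_bot_of_nontrivial A M
  have h2 : Module.supportDim A M ≠ ⊤ := by
    intro h
    have h3 := Module.supportDim_le_ringKrullDim A M
    rw [h, top_le_iff] at h3
    exact ringKrullDim_ne_top h3
  obtain ⟨x, hx⟩ := WithBot.ne_bot_iff_exists.1 h1
  have hx2 : x ≠ ⊤ := by rintro rfl; exact h2 hx.symm
  obtain ⟨d, hd⟩ := ENat.ne_top_iff_exists.1 hx2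
  exact ⟨d, by rw [← hx, ← hd]; rfl⟩

include hdim hω in
/-- `Ext^i(M, ω) = 0` unless `2 - dim M ≤ i ≤ 2`. -/
theorem subsingleton_ext (M : Type u) [AddCommGroup M] [Module A M] [Module.Finite A M] (d : ℕ)
    (hd : Module.supportDim A M ≤ d) (i : ℤ) (hi : i < 2 - d ∨ 2 < i) :
    Subsingleton (Dual.inD A M ⟶ (Dual.inD A ωA)⟦i⟧) := by
  rcases subsingleton_or_nontrivial M with hM | hM
  · have hz : IsZero (Dual.inD A M) :=
      Functor.map_isZero _ (ModuleCat.isZero_of_subsingleton (ModuleCat.of A M))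
    exact ⟨fun x y => hz.eq_of_src x y⟩
  · obtain ⟨d', hd'⟩ := exists_supportDim (A := A) M
    have hdd : d' ≤ d := by
      rw [hd'] at hd
      exact_mod_cast hd
    obtain ⟨h1, h2⟩ := normalized hdim hω
    have h3 := (Groth.Agent.S0366.result A _ h1 h2 M d' hd' (i - 2)).1
    have h4 : Subsingleton (Dual.inD A M ⟶ ((Dual.inD A ωA)⟦(2 : ℤ)⟧)⟦i - 2⟧) := by
      rw [← not_nontrivial_iff_subsingleton]
      intro h5
      have := h3 h5
      omega
    exact (homShift (Dual.inD A M) (Dual.inD A ωA) 2 (i - 2) i (by lia)).symm.toEquiv.subsingleton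

include hdim hω in
/-- The dualizing module is torsion free. -/
theorem torsionFree (a : A) (ha : a ≠ 0) (x : ωA) (hx : a • x = 0) : x = 0 := by
  by_cases hu : IsUnit a
  · exact (hu.smul_eq_zero).1 hx
  have hI : ringKrullDim (A ⧸ Ideal.span {a}) ≤ ((1 : ℕ) : WithBot ℕ∞) := by
    have h := ringKrullDim_quotient_succ_le_of_nonZeroDivisor (mem_nonZeroDivisors_of_ne_zero ha)
    rw [hdim] at h
    have h2 : ringKrullDim (A ⧸ Ideal.span {a}) + 1 ≤ 1 + 1 := h.trans (by norm_num)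
    exact (WithBot.add_le_add_iff_right' (by decide) (by decide)).1 h2
  have h1 : Subsingleton (Dual.inD A (A ⧸ Ideal.span {a}) ⟶ (Dual.inD A ωA)⟦(0 : ℤ)⟧) :=
    subsingleton_ext hdim hω (A ⧸ Ideal.span {a}) 1 (by
      rw [Module.supportDim_quotient_eq_ringKrullDim]
      exact hI) 0 (by norm_num)
  let l : (A ⧸ Ideal.span {a}) →ₗ[A] ωA :=
    Submodule.liftQ _ (LinearMap.toSpanSingleton A ωA x) (by
      rw [Submodule.span_le, Set.singleton_subset_iff]
      exact hx)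
  have h2 : (singleFunctor (ModuleCat.{u} A) 0).map (ModuleCat.ofHom l) = 0 := by
    rw [← cancel_mono ((shiftFunctorZero (Dual.D A) ℤ).inv.app (Dual.inD A ωA)), zero_comp]
    exact h1.elim _ _
  have h3 : ModuleCat.ofHom l = 0 := by
    apply (singleFunctor (ModuleCat.{u} A) 0).map_injective
    rw [h2, Functor.map_zero]
  have h4 : l (Submodule.Quotient.mk 1) = 0 := by
    have := congr($(h3).hom (Submodule.Quotient.mk 1))
    exact this
  have h5 : l (Submodule.Quotient.mk 1) = x := by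
    change (LinearMap.toSpanSingleton A ωA x) 1 = x
    rw [LinearMap.toSpanSingleton_apply, one_smul]
  rw [← h5, h4]

omit [IsDomain A] [IsLocalRing A] [IsNoetherianRing A] in
include hω in
theorem subsingleton_ext_self (i : ℤ) (hi : i ≠ 0) :
    Subsingleton (Dual.inD A A ⟶ (Dual.inD A ωA)⟦i⟧) := by
  have _ := hω
  obtain ⟨e⟩ := CMDual.homInD A (Dual.inD A ωA) i
  have := subsingleton_HD_inD (A := A) ωA i hi
  exact e.toEquiv.subsingleton

include hdim hω in
/-- For `K` with `H^0 = A`, `H^1` finite, `Hom(K, ω[i]) = 0` for `i ≥ 2`. -/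
theorem subsingleton_hom_ge (K : Dual.D A) (hGE : K.IsGE 0) (hLE : K.IsLE 1)
    (e0 : Dual.HD A K 0 ≃ₗ[A] A) (hf : Module.Finite A (Dual.HD A K 1)) (i : ℤ) (hi : 2 ≤ i) :
    Subsingleton (K ⟶ (Dual.inD A ωA)⟦i⟧) := by
  obtain ⟨P, B, a, b, c, hT, hP, hB, h1, h2⟩ := DQCohBasic.exists_trunc K 0
  have hP' : P.IsGE 0 := by
    rw [isGE_iff]
    intro j hj
    have := h1 j hj.le
    exact (isZero_of_isGE K 0 j hj).of_iso (asIso ((homologyFunctor _ j).map a))
  have hB' : B.IsLE 1 := by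
    rw [isLE_iff]
    intro j hj
    have := h2 j (by lia)
    exact (isZero_of_isLE K 1 j hj).of_iso (asIso ((homologyFunctor _ j).map b)).symm
  have hB1 : B.IsGE 1 := hB
  have h10 := h1 0 le_rfl
  have h21 := h2 1 (by norm_num)
  let eP0 : Dual.HD A P 0 ≃ₗ[A] A :=
    (asIso ((homologyFunctor (ModuleCat.{u} A) 0).map a)).toLinearEquiv ≪≫ₗ e0
  obtain ⟨eP⟩ := DCalc.nonempty_iso_of_both 0 P (Dual.inD A A)
    (eP0.toModuleIso ≪≫ ((singleFunctorCompHomologyFunctorIso (ModuleCat.{u} A) 0).symm.app _))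
  have hfB : Module.Finite A (Dual.HD A B 1) :=
    Module.Finite.equiv (asIso ((homologyFunctor (ModuleCat.{u} A) 1).map b)).toLinearEquiv
  obtain ⟨eB⟩ := DCalc.nonempty_iso_of_both 1 B (sg A 1 (Dual.HD A B 1))
    ((singleFunctorCompHomologyFunctorIso (ModuleCat.{u} A) 1).symm.app _)
  have hzP : Subsingleton (P ⟶ (Dual.inD A ωA)⟦i⟧) := by
    have := subsingleton_ext_self hω i (by lia)
    exact (Linear.homCongr A eP (Iso.refl ((Dual.inD A ωA)⟦i⟧))).toEquiv.subsingleton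
  have hzB : Subsingleton (B ⟶ (Dual.inD A ωA)⟦i⟧) := by
    have h3 : Module.supportDim A (Dual.HD A B 1) ≤ ((2 : ℕ) : WithBot ℕ∞) :=
      (Module.supportDim_le_ringKrullDim A _).trans hdim.le
    have h4 := subsingleton_ext hdim hω (Dual.HD A B 1) 2 h3 (i + 1) (by lia)
    have h5 : Subsingleton (sg A 1 (Dual.HD A B 1) ⟶ (Dual.inD A ωA)⟦i⟧) :=
      (GorDual.sgShiftEquiv (Dual.HD A B 1) (Dual.inD A ωA) i 1 (i + 1) rfl).toEquiv.subsingleton
    exact (Linear.homCongr A eB (Iso.refl ((Dual.inD A ωA)⟦i⟧))).toEquiv.subsingleton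
  suffices ∀ φ : K ⟶ (Dual.inD A ωA)⟦i⟧, φ = 0 from ⟨fun x y => (this x).trans (this y).symm⟩
  intro φ
  obtain ⟨g, hg⟩ := Pretriangulated.Triangle.yoneda_exact₂ _ hT φ (hzP.elim _ _)
  have : g = 0 := hzB.elim _ _
  rw [hg, this, comp_zero]
  rfl

include hdim hω in
/-- For `K` with `H^0 = A`, `H^1` finite and `Hom(κ, K[1]) = 0`, `Hom(K, ω[1]) = 0`. -/
theorem subsingleton_hom_one (K : Dual.D A) (hGE : K.IsGE 0) (hLE : K.IsLE 1)
    (e0 : Dual.HD A K 0 ≃ₗ[A] A) (hf : Module.Finite A (Dual.HD A K 1))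
    (hκ : Subsingleton (Dual.inD A (IsLocalRing.ResidueField A) ⟶ K⟦(1 : ℤ)⟧)) :
    Subsingleton (K ⟶ (Dual.inD A ωA)⟦(1 : ℤ)⟧) := by
  obtain ⟨h1, ⟨e⟩⟩ := ext_kappa hdim hω
  have hs : IsSimpleModule A (IsLocalRing.ResidueField A) :=
    isSimpleModule_iff_quot_maximal.2 ⟨IsLocalRing.maximalIdeal A, inferInstance, ⟨LinearEquiv.refl A _⟩⟩
  refine GD.subsingleton_hom (IsLocalRing.ResidueField A) (Dual.inD A ωA) hω 2 h1 e K (fun i => ?_) 1
    (fun i hi => subsingleton_hom_ge hdim hω K hGE hLE e0 hf i (by lia)) ?_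
  · by_cases h2 : i < 0
    · have := ModuleCat.isZero_iff_subsingleton.1 (isZero_of_isGE K 0 i h2)
      exact Module.Finite.of_finite
    · by_cases h3 : 1 < i
      · have := ModuleCat.isZero_iff_subsingleton.1 (isZero_of_isLE K 1 i h3)
        exact Module.Finite.of_finite
      · obtain rfl | rfl : i = 0 ∨ i = 1 := by lia
        · exact Module.Finite.equiv e0.symm
        · exact hf
  · have h3 := (GorDual.sgShiftEquiv (IsLocalRing.ResidueField A) K 0 1 1 (by norm_num)).toEquiv.subsingleton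
    have h4 := (Linear.homCongr A (Iso.refl (sg A 1 (IsLocalRing.ResidueField A)))
      ((shiftFunctorZero (Dual.D A) ℤ).app K)).symm.toEquiv.subsingleton
    exact h4

end K374.OmegaA
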