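import Groth.Agent.Resolve.K374.TwistVan
import Groth.Agent.Resolve.K374.ModBasic
import Groth.Agent.PerfB.TensInv
import Groth.Agent.Ega2.AmpleGlobGen
import Groth.Agent.Dix.IdealModCartier
import Groth.Agent.Grpsch.PicGrp
import Groth.Agent.VarietyA.H0Equiv
import Groth.Agent.Dcoh.Restrict
import Groth.Agent.PerfA.GenPull
import Groth.Agent.Flat2F.FtSub

/-!
# Castelnuovo-Mumford regularity on modifications of two-dimensional local domains
-/

set_option autoImplicit false
universe u
open CategoryTheory CategoryTheory.Limits AlgebraicGeometry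

namespace K374.CMReg

open Groth.Agent Groth.Agent.CurvesC Groth.Agent.CurvesC.ExtIdeal Groth.Agent.CurvesC.KoszulOne
  Groth.Agent.CohqB.HSeqMod Groth.Agent.CurvesC.ModDim K374.TwistVan

attribute [local instance] Abelian.hasFiniteBiproducts

section Koszul

variable {A : Type u} [CommRing A] [IsDomain A] [IsLocalRing A] [IsNoetherianRing A]
  (hdim : ringKrullDim A = 2) {X : Scheme.{u}} [IsIntegral X]
  (f : X ⟶ Spec (CommRingCat.of A)) [IsProper f]
  (hbir : ∃ U : (Spec (CommRingCat.of A)).Opens, (U : Set (Spec (CommRingCat.of A))).Nonempty ∧ IsIso (f ∣_ U))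
  {r : ℕ} (a : Fin r → A)
  (hloc : ∀ x : X, ∃ (V : X.Opens) (i : Fin r), x ∈ V ∧ toSec f V (a i) ≠ 0 ∧
    ∀ j, ∃ c : Γ(X, V), toSec f V (a j) = c * toSec f V (a i))
  (G : X.Modules) (hG : Coh.IsQCoh G) (h1 : Subsingleton (Coh.HH X G 1))

include hdim hbir hloc hG h1

theorem step (n : ℕ) (h0 : Subsingleton (Coh.HH X (CohB1.tensorMod G (L f a (n + 1))) 0)) :
    Subsingleton (Coh.HH X (CohB1.tensorMod G (L f a (n + 2))) 0) := by
  let T := DCoh.tensorBi.obj G
  have hT : T.IsLeftAdjoint := isLeftAdjoint G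
  have h2 : PreservesFiniteColimits T := inferInstance
  have h3 : PreservesBinaryBiproducts T := preservesBinaryBiproducts_of_preservesBinaryCoproducts _
  have hadd : T.Additive := Functor.additive_of_preservesBinaryBiproducts _
  have hI : ∀ n, Coh.IsQCoh (L f a n) := fun n => (PowSections.isCoh_extMod f _).1
  have hq : ∀ {r' : Type} [Fintype r'] (n : ℕ), Coh.IsQCoh (T.obj (⨁ fun _ : r' => L f a n)) := fun n =>
    Ega1.TensorRestrict.isQCoh_tensorMod _ _ hG (CohqA.HBiprod.isQCoh_biproduct _ fun _ => hI n)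
  have hepi : Epi (S f a n).g := epi_σ f a (n + 1)
  have hepi' : Epi (T.map (S f a n).g) := inferInstance
  have hex : ((S f a n).map T).Exact :=
    (exact_S f a hloc n).map_of_epi_of_preservesCokernel T hepi inferInstance
  have hb : ∀ {r' : Type} [Fintype r'] (n p : ℕ), Subsingleton (Coh.HH X (CohB1.tensorMod G (L f a n)) p) →
      Subsingleton (Coh.HH X (T.obj (⨁ fun _ : r' => L f a n)) p) := fun {r'} _ n p hp =>
    subsingleton_of_iso' (T.mapBiproduct (fun _ : r' => L f a n)).symm p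
      (CohqA.HBiprod.subsingleton_HH_biproduct _ p fun _ => hp)
  have h4 : Subsingleton (Coh.HH X (T.obj (⨁ fun _ : Fin r × Fin r => L f a n)) 1) :=
    hb n 1 (subsingleton_tensor hdim f hbir _ G hG h1)
  have h5 : Subsingleton (Coh.HH X (T.obj (⨁ fun _ : Fin r => L f a (n + 1))) 0) := hb (n + 1) 0 h0
  let g : T.obj (⨁ fun _ : Fin r => L f a (n + 1)) ⟶ T.obj (L f a (n + 2)) := T.map (S f a n).g
  have hg : Epi g := hepi'
  have hK : Coh.IsQCoh (kernel g) := Groth.Agent.CohqB.QC4.isQuasicoherent_kernel g (hq _)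
    (Ega1.TensorRestrict.isQCoh_tensorMod _ _ hG (hI _))
  have h6 : Subsingleton (Coh.HH X (kernel g) 1) := by
    have hE : Epi (kernel.lift g (T.map (S f a n).f) ((S f a n).map T).zero) :=
      (ShortComplex.exact_iff_epi_kernel_lift ((S f a n).map T)).1 hex
    exact @K372.QCohVan.subsingleton_of_epi A _ _ _ _ hdim X _ f _ hbir _ _ (hq _) hK
      (kernel.lift g (T.map (S f a n).f) ((S f a n).map T).zero) hE h4
  let S' : ShortComplex X.Modules := ShortComplex.mk (kernel.ι g) g (kernel.condition g)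
  have hS' : S'.ShortExact := { exact := ShortComplex.exact_kernel g }
  refine ⟨fun x y => ?_⟩
  have h7 : ∀ z : Coh.HH X (T.obj (L f a (n + 2))) 0, z = 0 := fun z => by
    obtain ⟨w, hw⟩ := exact₃ hS' 0 z (@Subsingleton.elim _ h6 _ _)
    rw [← hw, @Subsingleton.elim _ h5 w 0, map_zero]
  exact (h7 x).trans (h7 y).symm

/-- If `H^1(X, G) = 0` and `H^0(X, G ⊗ I O_X) = 0`, then `H^0(X, G ⊗ I^n O_X) = 0` for all `n ≥ 1`. -/
theorem subsingleton_HH_zero (h0 : Subsingleton (Coh.HH X (CohB1.tensorMod G (extMod f (I a))) 0)) (n : ℕ) :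
    Subsingleton (Coh.HH X (CohB1.tensorMod G (L f a (n + 1))) 0) := by
  induction n with
  | zero =>
    have h4 : L f a (0 + 1) = extMod f (I a) := by
      unfold L
      rw [zero_add, pow_one]
    rw [h4]
    exact h0
  | succ n ih => exact step hdim f hbir a hloc G hG h1 n ih

end Koszul

section Ample

variable {X : Scheme.{u}}

/-- `G ⊗ N ≅ G ⊗ N'`. -/
noncomputable def mapI (G : X.Modules) {N N' : X.Modules} (e : N ≅ N') :
    CohB1.tensorMod G N ≅ CohB1.tensorMod G N' :=
  (DCoh.tensorBi.obj G).mapIso e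

/-- `N ⊗ G ≅ N' ⊗ G`. -/
noncomputable def mapR (G : X.Modules) {N N' : X.Modules} (e : N ≅ N') :
    CohB1.tensorMod N G ≅ CohB1.tensorMod N' G :=
  (DCoh.tensorRightMod G).mapIso e

theorem app_injective_of_mono {M N : X.Modules} (φ : M ⟶ N) [Mono φ] (U : X.Opens) :
    Function.Injective (φ.app U) := by
  have h1 : Mono ((Scheme.Modules.toPresheaf X).map φ) := inferInstance
  have h2 : Mono (((Scheme.Modules.toPresheaf X).map φ).app (Opposite.op U)) := inferInstance
  exact (AddCommGrpCat.mono_iff_injective _).1 h2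

theorem subsingleton_top_iff (M : X.Modules) : Subsingleton (Coh.HH X M 0) ↔ Subsingleton Γ(M, ⊤) :=
  (VarietyA.H0Equiv.hZeroEquiv M).toEquiv.subsingleton_congr

theorem isZero_of_subsingleton_of_gg {F : X.Modules} (hgg : Curv2.IsGloballyGenerated F)
    (h : Subsingleton (Coh.HH X F 0)) : IsZero F := by
  obtain ⟨ι, e, he⟩ := hgg
  have h1 : Subsingleton Γ(F, ⊤) := (subsingleton_top_iff F).1 h
  have h2 : e = 0 := by
    apply Cofan.IsColimit.hom_ext (SheafOfModules.isColimitFreeCofan (R := X.ringCatSheaf) ι)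
    intro i
    have h4 : ∀ φ : Coh.structureModule X ⟶ F, φ = 0 := fun φ =>
      Dcoh.Restrict.unit_hom_ext _ _ (Subsingleton.elim _ _)
    exact (h4 _).trans (h4 _).symm
  subst h2
  have h3 : (𝟙 F : F ⟶ F) = 0 := by
    apply (cancel_epi (0 : (SheafOfModules.free ι : X.Modules) ⟶ F)).1
    rw [zero_comp, zero_comp]
  exact (IsZero.iff_id_eq_zero _).2 h3

theorem isZero_tensorMod {M : X.Modules} (N : X.Modules) (h : IsZero M) : IsZero (CohB1.tensorMod M N) :=
  Functor.map_isZero (DCoh.tensorRightMod N) h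

theorem isZero_of_isZero_tensor {G N : X.Modules} (hN : PicF.IsInvertible N) (h : IsZero (CohB1.tensorMod G N)) :
    IsZero G := by
  obtain ⟨N', -, ⟨e⟩⟩ := Grpsch.PicGrp.exists_inverse hN
  have h1 : IsZero (CohB1.tensorMod (CohB1.tensorMod G N) N') := isZero_tensorMod N' h
  have h2 : IsZero (CohB1.tensorMod G (CohB1.tensorMod N N')) := h1.of_iso (Ega2.Tens.assoc G N N').symm
  have h3 : IsZero (CohB1.tensorMod G (Coh.structureModule X)) := h2.of_iso (mapI G e).symm
  exact h3.of_iso (Ega2.Tens.runit G).symm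

theorem isZero_of_mono_of_gg {G' G N : X.Modules} (i : G' ⟶ G) [Mono i] (hN : PicF.IsInvertible N)
    (hgg : Curv2.IsGloballyGenerated (CohB1.tensorMod G' N)) (h : Subsingleton (Coh.HH X (CohB1.tensorMod G N) 0)) :
    IsZero G' := by
  have := PerfB.TensInv.preservesFiniteLimits_of_isInvertible hN
  let j : CohB1.tensorMod G' N ⟶ CohB1.tensorMod G N := (DCoh.tensorRightMod N).map i
  have hj : Mono j := inferInstanceAs (Mono ((DCoh.tensorRightMod N).map i))
  have h2 : Subsingleton Γ(CohB1.tensorMod G N, ⊤) := (subsingleton_top_iff _).1 h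
  have h3 : Subsingleton Γ(CohB1.tensorMod G' N, ⊤) := (app_injective_of_mono j ⊤).subsingleton
  exact isZero_of_isZero_tensor hN (isZero_of_subsingleton_of_gg hgg ((subsingleton_top_iff _).2 h3))

/-- If `L` is ample and `H^0(X, G ⊗ L^n) = 0` for all `n ≥ 1`, then `G = 0`. -/
theorem isZero_of_ample [IsNoetherian X] {L : X.Modules} (hL : CohB1.IsAmple L) (G : X.Modules) (hG : Coh.IsQCoh G)
    (h : ∀ n : ℕ, Subsingleton (Coh.HH X (CohB1.tensorMod G (CohB1.tensorPow L (n + 1))) 0)) : IsZero G := by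
  have key : ∀ (G' : X.Modules) (i : G' ⟶ G) [Mono i], Coh.IsCoh G' → IsZero G' := by
    intro G' i _ hG'
    obtain ⟨n, hn⟩ := Ega2.AmpleGlobGen.exists_globGen hL hG'
    have hinv : PicF.IsInvertible (CohB1.tensorPow L (n + 1)) := Fdesc.LocGen.isInvertible_tensorPow hL.1 (n + 1)
    have h1 := hn (n + 1) (Nat.le_succ n)
    have h2 := h n
    generalize CohB1.tensorPow L (n + 1) = N at *
    exact isZero_of_mono_of_gg i hinv h1 h2
  have : QuasiSeparatedSpace X := inferInstance
  refine PerfA.GenPull.isZero_of_affine_sections G hG fun x => ?_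
  obtain ⟨U, hU, hxU, -⟩ := exists_isAffineOpen_mem_and_subset (x := x) (U := ⊤) trivial
  refine ⟨U, hU, hxU, fun s => ?_⟩
  obtain ⟨a, ha⟩ := Flat2F.FtSub.GoodSub.exists_mem hG hU s
  have h1 := key a.sub.toModules a.sub.ι ⟨a.isQCoh hG, a.isFT hG⟩
  have h2 : a.sub.ι.app U (a.sub.sec s ha) = s := rfl
  have h3 : a.sub.ι = 0 := h1.eq_of_src _ _
  rw [← h2, h3]
  rfl

end Ample

end K374.CMReg
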