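import Groth.Agent.S1655
import Groth.Agent.CurvesC.ValData
import Mathlib.AlgebraicGeometry.Fiber
import Mathlib.AlgebraicGeometry.Morphisms.QuasiFinite
import Mathlib.AlgebraicGeometry.Morphisms.Proper
import Mathlib.AlgebraicGeometry.Noetherian
import Mathlib.RingTheory.Jacobson.Ring
import Mathlib.Topology.JacobsonSpace

/-!
# Components of the closed fibre of a modification

`f : X ⟶ Spec A` proper, `X` integral, `A` a normal Noetherian local domain, `f` an isomorphism over a
nonempty open and not an isomorphism: every component of the closed fibre has a closed point which is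
not its generic point and lies on no other component.
-/

set_option autoImplicit false
universe u
open CategoryTheory CategoryTheory.Limits AlgebraicGeometry TopologicalSpace

namespace K374.FibreComp

section Top

variable {A : Type u} [CommRing A] [IsLocalRing A]

/-- An open of the spectrum of a local ring containing the closed point is everything. -/
theorem eq_top_of_closedPoint_mem {V : (Spec (CommRingCat.of A)).Opens}
    (h : IsLocalRing.closedPoint A ∈ V) : V = ⊤ := by
  rw [eq_top_iff]
  intro x _
  exact (IsLocalRing.specializes_closedPoint x).mem_open V.isOpen h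

end Top

section Stalk

theorem isIntegrallyClosed_stalk {A : Type u} [CommRing A] [IsDomain A] [IsIntegrallyClosed A]
    (x : Spec (CommRingCat.of A)) :
    IsIntegrallyClosed ((Spec (CommRingCat.of A)).presheaf.stalk x) := by
  let : Algebra A ((Spec (CommRingCat.of A)).presheaf.stalk x) :=
    StructureSheaf.stalkAlgebra (CommRingCat.of A) x
  have : IsLocalization.AtPrime ((Spec (CommRingCat.of A)).presheaf.stalk x) x.asIdeal :=
    StructureSheaf.IsLocalization.to_stalk (CommRingCat.of A) x
  exact isIntegrallyClosed_of_isLocalization _ x.asIdeal.primeCompl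
    (Ideal.primeCompl_le_nonZeroDivisors _)

end Stalk

variable {A : Type u} [CommRing A] [IsDomain A] [IsLocalRing A] [IsNoetherianRing A] [IsIntegrallyClosed A]
  {X : Scheme.{u}} (f : X ⟶ Spec (CommRingCat.of A)) [IsProper f] [IsIntegral X]

/-- A modification which is quasi-finite at a point over the closed point is an isomorphism. -/
theorem isIso_of_quasiFiniteAt
    (hbir : ∃ U : (Spec (CommRingCat.of A)).Opens, (U : Set (Spec (CommRingCat.of A))).Nonempty ∧ IsIso (f ∣_ U))
    (y : X) (hy : f.base y = IsLocalRing.closedPoint A) (hq : f.QuasiFiniteAt y) : IsIso f := by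
  obtain ⟨W, hW, hfW⟩ := hbir
  obtain ⟨V, hV, hfV⟩ := Groth.Agent.S1655.result f W hW hfW (IsLocalRing.closedPoint A)
    (isIntegrallyClosed_stalk _) y hy hq
  have := eq_top_of_closedPoint_mem hV
  subst this
  exact (IsZariskiLocalAtTarget.iff_of_iSup_eq_top (P := MorphismProperty.isomorphisms Scheme.{u})
    (f := f) (fun _ : Unit => (⊤ : (Spec (CommRingCat.of A)).Opens)) (by simp)).mpr fun _ => hfV

omit [IsDomain A] [IsNoetherianRing A] [IsIntegrallyClosed A] [IsIntegral X] in
instance jacobsonSpace_fibre : JacobsonSpace ↥(f.base ⁻¹' {IsLocalRing.closedPoint A}) := by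
  have : JacobsonSpace (f.fiber (IsLocalRing.closedPoint A)) := inferInstance
  exact JacobsonSpace.of_isOpenEmbedding (f.fiberHomeo (IsLocalRing.closedPoint A)).symm.isOpenEmbedding

omit [IsDomain A] [IsIntegrallyClosed A] [IsIntegral X] in
theorem finite_components :
    (irreducibleComponents ↥(f.base ⁻¹' {IsLocalRing.closedPoint A})).Finite := by
  have hcl : IsClosed (f.base ⁻¹' {IsLocalRing.closedPoint A} : Set X) :=
    (IsLocalRing.isClosed_singleton_closedPoint A).preimage f.base.hom.continuous
  have hce : Topology.IsClosedEmbedding (Subtype.val : ↥(f.base ⁻¹' {IsLocalRing.closedPoint A}) → X) :=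
    hcl.isClosedEmbedding_subtypeVal
  have : IsLocallyNoetherian X := LocallyOfFiniteType.isLocallyNoetherian f
  have : CompactSpace X := QuasiCompact.compactSpace_of_compactSpace f
  have : IsNoetherian X := {}
  have : NoetherianSpace ↥(f.base ⁻¹' {IsLocalRing.closedPoint A}) :=
    hce.isEmbedding.isInducing.noetherianSpace
  exact NoetherianSpace.finite_irreducibleComponents
    (α := ↥(f.base ⁻¹' {IsLocalRing.closedPoint A}))

omit [IsProper f] [IsIntegral X] [IsDomain A] [IsLocalRing A] [IsNoetherianRing A] [IsIntegrallyClosed A] in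
theorem isOpen_asFiber (y : X) (s : Spec (CommRingCat.of A)) (hs : f.base y = s)
    (h : IsOpen ({⟨y, hs⟩} : Set ↥(f.base ⁻¹' {s}))) : IsOpen {f.asFiber y} := by
  subst hs
  have h1 := (f.fiberHomeo (f y)).symm.isOpenMap _ h
  rwa [Set.image_singleton] at h1

/-- The key topological statement. -/
theorem exists_closed_point
    (hbir : ∃ U : (Spec (CommRingCat.of A)).Opens, (U : Set (Spec (CommRingCat.of A))).Nonempty ∧ IsIso (f ∣_ U))
    (hf : ¬ IsIso f) (C : Set ↥(f.base ⁻¹' {IsLocalRing.closedPoint A}))
    (hC : C ∈ irreducibleComponents ↥(f.base ⁻¹' {IsLocalRing.closedPoint A})) :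
    ∃ (x ξ : ↥(f.base ⁻¹' {IsLocalRing.closedPoint A})), (ξ : X) ⤳ (x : X) ∧ x ≠ ξ ∧
      x ∈ C ∧ IsGenericPoint ξ C ∧ IsClosed ({(x : X)} : Set X) ∧
      (∀ C' ∈ irreducibleComponents ↥(f.base ⁻¹' {IsLocalRing.closedPoint A}), C' ≠ C → x ∉ C') := by
  have hcl : IsClosed (f.base ⁻¹' {IsLocalRing.closedPoint A} : Set X) :=
    (IsLocalRing.isClosed_singleton_closedPoint A).preimage f.base.hom.continuous
  have hce : Topology.IsClosedEmbedding (Subtype.val : ↥(f.base ⁻¹' {IsLocalRing.closedPoint A}) → X) :=
    hcl.isClosedEmbedding_subtypeVal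
  have : IsLocallyNoetherian X := LocallyOfFiniteType.isLocallyNoetherian f
  have : CompactSpace X := QuasiCompact.compactSpace_of_compactSpace f
  have : IsNoetherian X := {}
  have : NoetherianSpace ↥(f.base ⁻¹' {IsLocalRing.closedPoint A}) :=
    hce.isEmbedding.isInducing.noetherianSpace
  have hqs : QuasiSober ↥(f.base ⁻¹' {IsLocalRing.closedPoint A}) := hce.quasiSober
  have hfin := NoetherianSpace.finite_irreducibleComponents
    (α := ↥(f.base ⁻¹' {IsLocalRing.closedPoint A}))
  obtain ⟨ξ, hξ⟩ := QuasiSober.sober hC.1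
    (isClosed_of_mem_irreducibleComponents C hC)
  set W : Set ↥(f.base ⁻¹' {IsLocalRing.closedPoint A}) :=
    (⋃ C' ∈ {C' | C' ∈ irreducibleComponents ↥(f.base ⁻¹' {IsLocalRing.closedPoint A}) ∧ C' ≠ C}, C')ᶜ
    with hW
  have hWmem : ∀ z, z ∈ W ↔ ∀ C' ∈ irreducibleComponents ↥(f.base ⁻¹' {IsLocalRing.closedPoint A}),
      C' ≠ C → z ∉ C' := by
    intro z
    rw [hW, Set.mem_compl_iff, Set.mem_iUnion₂]
    push Not
    exact ⟨fun h C' h1 h2 => h C' ⟨h1, h2⟩, fun h C' h1 => h C' h1.1 h1.2⟩
  have hWo : IsOpen W := by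
    rw [hW, isOpen_compl_iff]
    exact Set.Finite.isClosed_biUnion (hfin.subset fun C' h => h.1)
      fun C' h => isClosed_of_mem_irreducibleComponents C' h.1
  have hξW : ξ ∈ W := by
    rw [hWmem]
    intro C' hC' hne hξC'
    have h1 : C ⊆ C' := by
      rw [← hξ.def]
      exact (isClosed_of_mem_irreducibleComponents C' hC').closure_subset_iff.mpr
        (Set.singleton_subset_iff.mpr hξC')
    exact hne (Set.Subset.antisymm (hC.2 hC'.1 h1) h1)
  have hWC : ∀ z ∈ W, z ∈ C := by
    intro z hz
    by_contra h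
    refine (hWmem z).mp hz (irreducibleComponent z) (irreducibleComponent_mem_irreducibleComponents z)
      ?_ mem_irreducibleComponent
    rintro rfl
    exact h mem_irreducibleComponent
  have hne : ∃ z ∈ W, z ≠ ξ := by
    by_contra hcon
    push Not at hcon
    have hWξ : W = {ξ} := Set.eq_singleton_iff_unique_mem.mpr ⟨hξW, hcon⟩
    apply hf
    refine isIso_of_quasiFiniteAt f hbir (ξ : X) ξ.2 ?_
    rw [Scheme.Hom.quasiFiniteAt_iff_isOpen_singleton_asFiber]
    rw [hWξ] at hWo
    exact isOpen_asFiber f _ _ ξ.2 hWo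
  obtain ⟨z, hzW, hzξ⟩ := hne
  obtain ⟨x, hx⟩ := nonempty_inter_closedPoints (Z := closure {z} ∩ W)
    ⟨z, subset_closure rfl, hzW⟩ (isClosed_closure.isLocallyClosed.inter hWo.isLocallyClosed)
  have hxC : x ∈ C := hWC x hx.1.2
  have hξx : ξ ⤳ x := by
    rw [specializes_iff_mem_closure, hξ.def]
    exact hxC
  refine ⟨x, ξ, hξx.map hce.continuous, ?_, hxC, hξ, ?_, ?_⟩
  · rintro rfl
    have h1 : C = {x} := by
      rw [← hξ.def]
      exact IsClosed.closure_eq hx.2
    have h2 := hWC z hzW
    rw [h1] at h2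
    exact hzξ h2
  · have := hce.isClosedMap _ hx.2
    rwa [Set.image_singleton] at this
  · exact (hWmem x).mp hx.1.2

end K374.FibreComp
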