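import Groth.Agent.S1655
import Groth.Agent.CurvesC.ValData
import Groth.Agent.Resolve.K374.FibreComp
import Mathlib.RingTheory.DiscreteValuationRing.TFAE
import Mathlib.RingTheory.KrullDimension.Basic
import Mathlib.RingTheory.Ideal.Height

/-!
# Points of a modification lying over points of codimension at most one

`A` a normal Noetherian domain, `f : X ⟶ Spec A` with `X` integral, an isomorphism over a nonempty open.
Two points `y ⤳ y'` of `X` over the same point `p` of `Spec A` with `height p ≤ 1` are equal.  If `f` is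
proper and `A` is local of dimension two, then `f` is an isomorphism over the punctured spectrum.
-/

set_option autoImplicit false
universe u
open CategoryTheory CategoryTheory.Limits AlgebraicGeometry TopologicalSpace

namespace K374.PtFib

/-- A prime of height at most one of a normal Noetherian domain: the local ring is a valuation ring. -/
theorem valuationRing_of_height_le_one {A : Type u} [CommRing A] [IsDomain A] [IsNoetherianRing A]
    [IsIntegrallyClosed A] (p : Ideal A) [p.IsPrime] (hp : p.height ≤ 1) :
    ValuationRing (Localization.AtPrime p) := by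
  have hk : Ring.KrullDimLE 1 (Localization.AtPrime p) := by
    rw [Ring.krullDimLE_iff, IsLocalization.AtPrime.ringKrullDim_eq_height p]
    exact_mod_cast hp
  have h := (tfae_of_isNoetherianRing_of_isLocalRing_of_isDomain (Localization.AtPrime p)).out 1 3
  have hic : IsIntegrallyClosed (Localization.AtPrime p) :=
    isIntegrallyClosed_of_isLocalization _ p.primeCompl (Ideal.primeCompl_le_nonZeroDivisors p)
  refine h.mpr ⟨hic, fun P hP hPp => ?_⟩
  have := Ideal.isMaximal_of_isPrime_of_ne_bot P hP
  exact IsLocalRing.eq_maximalIdeal this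

/-- For a prime of height at most one: of two elements one divides the other up to an element outside `p`. -/
theorem exists_mul_eq {A : Type u} [CommRing A] [IsDomain A] [IsNoetherianRing A]
    [IsIntegrallyClosed A] (p : Ideal A) [p.IsPrime] (hp : p.height ≤ 1) (a b : A) :
    ∃ s c : A, s ∉ p ∧ (s * a = c * b ∨ s * b = c * a) := by
  have := valuationRing_of_height_le_one p hp
  have hinj : Function.Injective (algebraMap A (Localization.AtPrime p)) :=
    IsLocalization.injective _ (Ideal.primeCompl_le_nonZeroDivisors p)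
  have key : ∀ a b : A, algebraMap A (Localization.AtPrime p) a ∣ algebraMap A _ b →
      ∃ s c : A, s ∉ p ∧ s * b = c * a := by
    intro a b ⟨z, hz⟩
    obtain ⟨c, s, rfl⟩ := IsLocalization.exists_mk'_eq p.primeCompl z
    refine ⟨s, c, s.2, hinj ?_⟩
    rw [map_mul, map_mul, hz, mul_left_comm, IsLocalization.mk'_spec', mul_comm]
  rcases ValuationRing.dvd_total (algebraMap A (Localization.AtPrime p) a) (algebraMap A _ b) with h | h
  · obtain ⟨s, c, hs, h⟩ := key a b h
    exact ⟨s, c, hs, Or.inr h⟩
  · obtain ⟨s, c, hs, h⟩ := key b a h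
    exact ⟨s, c, hs, Or.inl h⟩

open Groth.Agent.CurvesC.ValData Groth.Agent.CurvesC.ModDim

variable {A : Type u} [CommRing A] [IsDomain A] {X : Scheme.{u}} (f : X ⟶ Spec (CommRingCat.of A))
  [IsIntegral X]

/-- The ring map `A → O_{X,x}`. -/
noncomputable def germOf (x : X) : A →+* X.presheaf.stalk x :=
  (X.presheaf.germ ⊤ x trivial).hom.comp (toSec f ⊤)

omit [IsDomain A] in
theorem algebraMap_germOf (x : X) (a : A) :
    algebraMap (X.presheaf.stalk x) X.functionField (germOf f x a) = toK f a := by
  have hne : Nonempty (⊤ : X.Opens) := ⟨⟨genericPoint X, trivial⟩⟩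
  exact Scheme.algebraMap_germ_eq_germToFunctionField (X := X) (U := ⊤) (x := x) trivial (toSec f ⊤ a)

omit [IsDomain A] [IsIntegral X] in
theorem isUnit_germOf_iff (x : X) (a : A) : IsUnit (germOf f x a) ↔ a ∉ (f x).asIdeal := by
  rw [← comap_pr f (V := ⊤) x trivial, Ideal.mem_comap, mem_pr, not_not]
  exact (Scheme.mem_basicOpen_top X (toSec f ⊤ a) x).symm

omit [IsDomain A] [IsIntegral X] in
theorem germOf_specializes {x y : X} (h : y ⤳ x) (a : A) :
    (X.presheaf.stalkSpecializes h).hom (germOf f x a) = germOf f y a := by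
  exact TopCat.Presheaf.germ_stalkSpecializes_apply (F := X.presheaf) (U := ⊤) (hy := trivial) h
    (toSec f ⊤ a)

theorem eq_of_specializes [IsNoetherianRing A] [IsIntegrallyClosed A]
    (hbir : ∃ U : (Spec (CommRingCat.of A)).Opens, (U : Set (Spec (CommRingCat.of A))).Nonempty ∧ IsIso (f ∣_ U))
    {y x : X} (h : y ⤳ x) (hxy : f y = f x) (hp : (f x).asIdeal.height ≤ 1) : x = y := by
  by_contra hne
  -- an element of the maximal ideal at `x` which is a unit at `y`
  obtain ⟨g, hg, hgu⟩ : ∃ g ∈ IsLocalRing.maximalIdeal (X.presheaf.stalk x),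
      IsUnit ((X.presheaf.stalkSpecializes h).hom g) := by
    by_contra hcon
    push Not at hcon
    apply hne
    have h1 : (Spec.map (X.presheaf.stalkSpecializes h)) (IsLocalRing.closedPoint (X.presheaf.stalk y)) =
        IsLocalRing.closedPoint (X.presheaf.stalk x) := by
      have : IsLocalHom (X.presheaf.stalkSpecializes h).hom := by
        constructor
        intro a ha
        by_contra hna
        exact hcon a ((IsLocalRing.mem_maximalIdeal a).mpr hna) ha
      exact IsLocalRing.comap_closedPoint (X.presheaf.stalkSpecializes h).hom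
    have h2 : (Spec.map (X.presheaf.stalkSpecializes h) ≫ X.fromSpecStalk x)
        (IsLocalRing.closedPoint (X.presheaf.stalk y)) = x := by
      rw [Scheme.Hom.comp_apply, h1, Scheme.fromSpecStalk_closedPoint]
    rw [Scheme.SpecMap_stalkSpecializes_fromSpecStalk, Scheme.fromSpecStalk_closedPoint] at h2
    exact h2.symm
  let : Algebra A X.functionField := (toK f).toAlgebra
  have hfrac : IsFractionRing A X.functionField := isFractionRing_toK f hbir
  have hinj : Function.Injective (algebraMap (X.presheaf.stalk x) X.functionField) :=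
    IsFractionRing.injective _ _
  have hinjA : Function.Injective (algebraMap A X.functionField) := IsFractionRing.injective _ _
  obtain ⟨b, c, hc, hbc⟩ := IsFractionRing.div_surjective (A := A)
    (algebraMap (X.presheaf.stalk x) X.functionField g)
  have hc0 : algebraMap A X.functionField c ≠ 0 := by
    rw [Ne, FaithfulSMul.algebraMap_eq_zero_iff]; exact nonZeroDivisors.ne_zero hc
  have h1 : g * germOf f x c = germOf f x b := by
    apply hinj
    rw [map_mul, algebraMap_germOf, algebraMap_germOf, ← hbc]
    exact div_mul_cancel₀ _ hc0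
  -- `s b = d c` or `s c = d b`
  obtain ⟨s, d, hs, hsd⟩ := exists_mul_eq (f x).asIdeal hp b c
  have hsx : IsUnit (germOf f x s) := (isUnit_germOf_iff f x s).mpr hs
  have hc0x : germOf f x c ≠ 0 := by
    intro h0
    apply hc0
    have := algebraMap_germOf f x c
    rw [h0, map_zero] at this
    exact this.symm
  rcases hsd with hsd | hsd
  · -- `germ s * g = germ d`
    have h2 : germOf f x s * g = germOf f x d := by
      apply mul_right_cancel₀ hc0x
      rw [mul_assoc, h1, ← map_mul, ← map_mul, hsd]
    have h3 : ¬ IsUnit (germOf f x d) := by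
      rw [← h2, IsUnit.mul_iff]
      exact fun h => (IsLocalRing.mem_maximalIdeal g).mp hg h.2
    have h4 : IsUnit (germOf f y d) := by
      rw [← germOf_specializes f h, ← h2, map_mul]
      exact (hsx.map _).mul hgu
    rw [isUnit_germOf_iff, not_not] at h3
    rw [isUnit_germOf_iff, hxy] at h4
    exact h4 h3
  · -- `germ s = germ d * g`: impossible
    have h2 : germOf f x s = germOf f x d * g := by
      apply mul_right_cancel₀ hc0x
      rw [mul_assoc, h1, ← map_mul, ← map_mul, hsd]
    rw [h2, IsUnit.mul_iff] at hsx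
    exact (IsLocalRing.mem_maximalIdeal g).mp hg hsx.2

omit [IsDomain A] [IsIntegral X] in
/-- If the fibre through `x` has no nontrivial specializations, then `f` is quasi-finite at `x`. -/
theorem quasiFiniteAt_of_specializes {S : Scheme.{u}} (f : X ⟶ S) [LocallyOfFiniteType f] [QuasiCompact f]
    (x : X) (h : ∀ y z : X, y ⤳ z → f y = f x → f z = f x → y = z) : f.QuasiFiniteAt x := by
  rw [Scheme.Hom.quasiFiniteAt_iff_isOpen_singleton_asFiber]
  have : LocallyOfFiniteType (f.fiberToSpecResidueField (f x)) :=
    MorphismProperty.pullback_snd _ _ inferInstance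
  have : IsLocallyNoetherian (f.fiber (f x)) :=
    LocallyOfFiniteType.isLocallyNoetherian (f.fiberToSpecResidueField (f x))
  have : IsNoetherian (f.fiber (f x)) := {}
  have hspec : ∀ y z : f.fiber (f x), y ⤳ z → y = z := by
    intro y z hyz
    apply (f.fiberι (f x)).isEmbedding.injective
    have hr : ∀ w : f.fiber (f x), f (f.fiberι (f x) w) = f x := fun w => by
      have h1 : f.fiberι (f x) w ∈ Set.range (f.fiberι (f x)) := ⟨w, rfl⟩
      rwa [Scheme.Hom.range_fiberι] at h1
    exact h _ _ (hyz.map (f.fiberι (f x)).continuous) (hr y) (hr z)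
  have : T1Space (f.fiber (f x)) := t1Space_iff_specializes_imp_eq.mpr fun y z h => hspec y z h
  have hfin : Finite (f.fiber (f x)) := by
    have h1 := (NoetherianSpace.finite_irreducibleComponents (α := f.fiber (f x))).to_subtype
    have h2 : ∀ w : f.fiber (f x), irreducibleComponent w = {w} := by
      intro w
      obtain ⟨η, hη⟩ := QuasiSober.sober (isIrreducible_irreducibleComponent (x := w))
        isClosed_irreducibleComponent
      have h3 : η = w := hspec _ _ (hη.specializes mem_irreducibleComponent)
      subst h3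
      rw [← hη.def, closure_singleton]
    refine Finite.of_injective (β := irreducibleComponents (f.fiber (f x)))
      (fun w => ⟨irreducibleComponent w, irreducibleComponent_mem_irreducibleComponents w⟩) ?_
    intro w w' hw
    have h3 := congrArg Subtype.val hw
    simp only [h2, Set.singleton_eq_singleton_iff] at h3
    exact h3
  have : DiscreteTopology (f.fiber (f x)) := inferInstance
  exact isOpen_discrete _

theorem quasiFiniteAt_of_height_le_one [IsNoetherianRing A] [IsIntegrallyClosed A] [LocallyOfFiniteType f]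
    [QuasiCompact f]
    (hbir : ∃ U : (Spec (CommRingCat.of A)).Opens, (U : Set (Spec (CommRingCat.of A))).Nonempty ∧ IsIso (f ∣_ U))
    (x : X) (hp : (f x).asIdeal.height ≤ 1) : f.QuasiFiniteAt x :=
  quasiFiniteAt_of_specializes f x fun y z h hy hz =>
    (eq_of_specializes f hbir h (hy.trans hz.symm) (by rw [hz]; exact hp)).symm

/-- Local isomorphism near a point of height at most one (which is in the image). -/
theorem exists_isIso_of_height_le_one [IsNoetherianRing A] [IsIntegrallyClosed A] [IsProper f]
    (hbir : ∃ U : (Spec (CommRingCat.of A)).Opens, (U : Set (Spec (CommRingCat.of A))).Nonempty ∧ IsIso (f ∣_ U))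
    (p : Spec (CommRingCat.of A)) (hp : p.asIdeal.height ≤ 1) :
    ∃ V : (Spec (CommRingCat.of A)).Opens, p ∈ V ∧ IsIso (f ∣_ V) := by
  obtain ⟨x, rfl⟩ : ∃ x, f x = p := by
    obtain ⟨U, hU, hfU⟩ := hbir
    have hdom : DenseRange f := by
      have h1 : (U : Set (Spec (CommRingCat.of A))) ⊆ Set.range f := by
        intro y hy
        obtain ⟨z, hz⟩ := (f ∣_ U).homeomorph.surjective ⟨y, hy⟩
        refine ⟨z.1, ?_⟩
        have h3 : (f ∣_ U) z = ⟨y, hy⟩ := hz
        rw [morphismRestrict_base] at h3
        exact congrArg Subtype.val h3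
      exact (U.isOpen.dense hU).mono h1
    have hcl : IsClosed (Set.range f) := f.isClosedMap.isClosed_range
    have h2 : Set.range f = Set.univ := by
      rw [← hcl.closure_eq]; exact hdom.closure_range
    have h3 : p ∈ Set.range f := by rw [h2]; exact Set.mem_univ p
    exact h3
  obtain ⟨U, hU, hfU⟩ := hbir
  exact Groth.Agent.S1655.result f U hU hfU (f x) (FibreComp.isIntegrallyClosed_stalk _) x rfl
    (quasiFiniteAt_of_height_le_one f ⟨U, hU, hfU⟩ x hp)

/-- An isomorphism over each member of a family of opens is an isomorphism over the union. -/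
theorem isIso_iSup {X S : Scheme.{u}} (f : X ⟶ S) {ι : Type u} (V : ι → S.Opens) [∀ i, IsIso (f ∣_ V i)] :
    IsIso (f ∣_ (⨆ i, V i)) := by
  have hcov : ⨆ i, (⨆ i, V i).ι ⁻¹ᵁ V i = ⊤ := by
    rw [eq_top_iff]
    rintro ⟨x, hx⟩ _
    obtain ⟨i, hi⟩ := Opens.mem_iSup.mp hx
    exact Opens.mem_iSup.mpr ⟨i, hi⟩
  refine (IsZariskiLocalAtTarget.iff_of_iSup_eq_top (P := MorphismProperty.isomorphisms Scheme.{u})
    (f := f ∣_ (⨆ i, V i)) (fun i => (⨆ i, V i).ι ⁻¹ᵁ V i) hcov).mpr fun i => ?_
  have h1 : (⨆ i, V i).ι ''ᵁ ((⨆ i, V i).ι ⁻¹ᵁ V i) = V i := by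
    ext x
    constructor
    · rintro ⟨y, hy, rfl⟩
      exact hy
    · intro hx
      exact ⟨⟨x, Opens.mem_iSup.mpr ⟨i, hx⟩⟩, hx, rfl⟩
  refine (MorphismProperty.arrow_mk_iso_iff (MorphismProperty.isomorphisms Scheme.{u})
    (morphismRestrictRestrict f (⨆ i, V i) ((⨆ i, V i).ι ⁻¹ᵁ V i))).mpr ?_
  rw [h1]
  exact ‹∀ i, IsIso (f ∣_ V i)› i

/-- The punctured spectrum. -/
def punctured (A : Type u) [CommRing A] [IsLocalRing A] : (Spec (CommRingCat.of A)).Opens :=
  ⟨{IsLocalRing.closedPoint A}ᶜ, (IsLocalRing.isClosed_singleton_closedPoint A).isOpen_compl⟩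

theorem mem_punctured (A : Type u) [CommRing A] [IsLocalRing A] (p : Spec (CommRingCat.of A)) :
    p ∈ punctured A ↔ p ≠ IsLocalRing.closedPoint A := Iff.rfl

theorem height_le_one_of_ne {A : Type u} [CommRing A] [IsLocalRing A] [IsNoetherianRing A]
    (hdim : ringKrullDim A = 2) (p : PrimeSpectrum A) (hp : p ≠ IsLocalRing.closedPoint A) :
    p.asIdeal.height ≤ 1 := by
  have hlt : p.asIdeal < IsLocalRing.maximalIdeal A := by
    refine lt_of_le_of_ne (IsLocalRing.le_maximalIdeal p.2.ne_top) fun h => hp ?_
    exact PrimeSpectrum.ext h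
  have h1 := Ideal.height_add_one_le_of_lt_of_isPrime hlt
  have h2 : (IsLocalRing.maximalIdeal A).height = 2 := by
    have h3 := IsLocalRing.maximalIdeal_height_eq_ringKrullDim (R := A)
    rw [hdim] at h3
    exact WithBot.coe_injective (h3.trans (by rfl))
  rw [h2] at h1
  have h4 : p.asIdeal.height + 1 ≤ 1 + 1 := by rw [one_add_one_eq_two]; exact h1
  exact (ENat.add_le_add_iff_right ENat.one_ne_top).mp h4

/-- **A modification of a normal two-dimensional local domain is an isomorphism over the punctured
spectrum.** -/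
theorem isIso_punctured [IsLocalRing A] [IsNoetherianRing A] [IsIntegrallyClosed A] [IsProper f]
    (hdim : ringKrullDim A = 2)
    (hbir : ∃ U : (Spec (CommRingCat.of A)).Opens, (U : Set (Spec (CommRingCat.of A))).Nonempty ∧ IsIso (f ∣_ U)) :
    IsIso (f ∣_ punctured A) := by
  choose V hV hfV using fun p : punctured A =>
    exists_isIso_of_height_le_one f hbir p.1 (height_le_one_of_ne hdim p.1 p.2)
  have := isIso_iSup f V
  exact isIso_morphismRestrict_of_le f (U := ⨆ p, V p) fun p hp => Opens.mem_iSup.mpr ⟨⟨p, hp⟩, hV ⟨p, hp⟩⟩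

end K374.PtFib
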