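import Groth.Agent.Lipman.GR
import Groth.Agent.Dcoh.Restrict
import Groth.Agent.CohqB.QC4
import Groth.Agent.Resolve.K374.PtFib
import Groth.Agent.CurvesC.ModDim

/-!
# `Γ(X, j_* O_V / O_X) = 0` for a normal modification, `V` the complement of the closed fibre
-/

set_option autoImplicit false
universe u
open CategoryTheory CategoryTheory.Limits AlgebraicGeometry TopologicalSpace Opposite

namespace K374.GRSheaf

open Groth.Agent Groth.Agent.Lipman.Loc K374.PtFib

section

variable {X : Scheme.{u}} [IsIntegral X] (V : X.Opens) [hV : Nonempty V]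

/-- The structure sheaf. -/
noncomputable abbrev OX (X : Scheme.{u}) : X.Modules := Coh.structureModule X

/-- `j_* j^* O_X`. -/
noncomputable abbrev jj : X.Modules :=
  (Scheme.Modules.pushforward V.ι).obj ((Scheme.Modules.restrictFunctor V.ι).obj (OX X))

/-- The unit `O_X ⟶ j_* j^* O_X`. -/
noncomputable abbrev unitJ : OX X ⟶ jj V := (Scheme.Modules.restrictAdjunction V.ι).unit.app (OX X)

omit [IsIntegral X] hV in
theorem image_preimage (W : X.Opens) : V.ι ''ᵁ V.ι ⁻¹ᵁ W = V ⊓ W := by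
  rw [Scheme.Hom.image_preimage_eq_opensRange_inf, Scheme.Opens.opensRange_ι]

instance nonempty_inter {W : X.Opens} [hW : Nonempty W] : Nonempty (V.ι ''ᵁ V.ι ⁻¹ᵁ W : X.Opens) := by
  rw [image_preimage]
  have h2 := nonempty_preirreducible_inter V.2 W.2 ⟨hV.some.1, hV.some.2⟩ ⟨hW.some.1, hW.some.2⟩
  exact ⟨⟨h2.some, h2.some_mem⟩⟩

/-- The rational function of a section of `j_* O_V`. -/
noncomputable def rat {W : X.Opens} [Nonempty W] (s : Γ(jj V, W)) : X.functionField :=
  X.germToFunctionField (V.ι ''ᵁ V.ι ⁻¹ᵁ W) (show Γ(X, V.ι ''ᵁ V.ι ⁻¹ᵁ W) from s)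

theorem rat_injective {W : X.Opens} [Nonempty W] : Function.Injective (rat V (W := W)) :=
  X.germToFunctionField_injective (V.ι ''ᵁ V.ι ⁻¹ᵁ W)

theorem rat_sub {W : X.Opens} [Nonempty W] (s t : Γ(jj V, W)) : rat V (s - t) = rat V s - rat V t :=
  map_sub (X.germToFunctionField (V.ι ''ᵁ V.ι ⁻¹ᵁ W)).hom _ _

theorem rat_res {W W' : X.Opens} [Nonempty W] [Nonempty W'] (h : W' ≤ W) (s : Γ(jj V, W)) :
    rat V ((jj V).presheaf.map (homOfLE h).op s) = rat V s :=
  germToFunctionField_res (V := V.ι ''ᵁ V.ι ⁻¹ᵁ W) (W := V.ι ''ᵁ V.ι ⁻¹ᵁ W')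
    (Scheme.Hom.image_mono _ (fun _ hx => h hx)) (show Γ(X, V.ι ''ᵁ V.ι ⁻¹ᵁ W) from s)

theorem rat_unit {W : X.Opens} [Nonempty W] (g : Γ(X, W)) :
    rat V ((unitJ V).app W (show Γ(OX X, W) from g)) = X.germToFunctionField W g :=
  germToFunctionField_res (V := W) (W := V.ι ''ᵁ V.ι ⁻¹ᵁ W) (V.ι.image_preimage_le W) g

theorem rat_mem_loc {W : X.Opens} [Nonempty W] (s : Γ(jj V, W)) {x : X} (hx : x ∈ W) (hxV : x ∈ V) :
    rat V s ∈ loc x :=
  germToFunctionField_mem_loc _ (by
    rw [image_preimage]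
    exact ⟨hxV, hx⟩)

/-- A section vanishing locally vanishes. -/
theorem eq_zero_of_locally {X : Scheme.{u}} (M : X.Modules) {V : X.Opens} (m : Γ(M, V))
    (h : ∀ x ∈ V, ∃ (W : X.Opens) (hW : W ≤ V), x ∈ W ∧ M.presheaf.map (homOfLE hW).op m = 0) :
    m = 0 := by
  refine TopCat.Presheaf.section_ext ⟨M.presheaf, M.isSheaf⟩ V m 0 fun x hx => ?_
  obtain ⟨W, hW, hxW, h0⟩ := h x hx
  have := TopCat.Presheaf.germ_res_apply M.presheaf (homOfLE hW) x hxW m
  refine this.symm.trans ?_
  rw [h0, map_zero, map_zero]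

theorem mono_of_app_injective {X : Scheme.{u}} {M N : X.Modules} (g : M ⟶ N)
    (h : ∀ (U : X.Opens) (s : Γ(M, U)), g.app U s = 0 → s = 0) : Mono g := by
  refine Preadditive.mono_of_cancel_zero _ fun {P} φ hφ => ?_
  ext U s
  apply h
  have := congr($(hφ).app U s)
  exact this

instance : Mono (unitJ V) := by
  refine mono_of_app_injective _ fun U s hs => ?_
  by_cases hU : Nonempty U
  · have h1 : X.germToFunctionField U (show Γ(X, U) from s) = 0 := by
      rw [← rat_unit V (show Γ(X, U) from s)]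
      exact (congrArg (rat V) hs).trans (map_zero (X.germToFunctionField _).hom)
    exact X.germToFunctionField_injective U (h1.trans (map_zero _).symm)
  · refine eq_zero_of_locally (OX X) s fun x hx => absurd ⟨⟨x, hx⟩⟩ hU

end

section

variable {A : Type u} [CommRing A] [IsDomain A] [IsLocalRing A] [IsNoetherianRing A] [IsIntegrallyClosed A]
  (hdim : ringKrullDim A = 2) {X : Scheme.{u}} (f : X ⟶ Spec (CommRingCat.of A)) [IsProper f] [IsIntegral X]
  (hXn : Pi1.IsNormalScheme X)
  (hbir : ∃ U : (Spec (CommRingCat.of A)).Opens, (U : Set (Spec (CommRingCat.of A))).Nonempty ∧ IsIso (f ∣_ U))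

include hdim hXn hbir in
/-- `Γ(X, j_* O_V / O_X) = 0`. -/
theorem subsingleton_top (V : X.Opens) [Nonempty V] (hV : ∀ x : X, f x ≠ IsLocalRing.closedPoint A → x ∈ V)
    (Q : X.Modules) (q : jj V ⟶ Q) (w : unitJ V ≫ q = 0) (hS : (ShortComplex.mk (unitJ V) q w).Exact) [Epi q] :
    Subsingleton Γ(Q, ⊤) := by
  suffices ∀ t : Γ(Q, ⊤), t = 0 from ⟨fun a b => (this a).trans (this b).symm⟩
  intro t
  obtain ⟨U, hUne, hU⟩ := hbir
  have h1 : ∀ x : X, ∃ (W : X.Opens) (s : Γ(jj V, W)), x ∈ W ∧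
      q.app W s = Q.presheaf.map (homOfLE (le_top : W ≤ ⊤)).op t := by
    intro x
    obtain ⟨W, hW, s, hx, hs⟩ := Dcoh.Restrict.exists_local_preimage q ⊤ t x trivial
    exact ⟨W, s, hx, hs⟩
  choose W s hxW hs using h1
  have hne : ∀ x, Nonempty (W x) := fun x => ⟨⟨x, hxW x⟩⟩
  have hm : Mono (ShortComplex.mk (unitJ V) q w).f := inferInstanceAs (Mono (unitJ V))
  have key := Groth.Agent.Lipman.GR.gr f U (by rw [hdim]; norm_num) (fun x => (hXn x).2) hUne W
    (fun x _ => ⟨x, hxW x⟩) (fun x => rat V (s x)) (fun x y hy hfy => rat_mem_loc V _ hy (hV y hfy)) (by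
      intro x y z hzx hzy
      let W' := W x ⊓ W y
      have : Nonempty W' := ⟨⟨z, hzx, hzy⟩⟩
      let a := (jj V).presheaf.map (homOfLE (inf_le_left : W' ≤ W x)).op (s x)
      let b := (jj V).presheaf.map (homOfLE (inf_le_right : W' ≤ W y)).op (s y)
      have hab : q.app W' (a - b) = 0 := by
        have ha : q.app W' a = Q.presheaf.map (homOfLE (le_top : W' ≤ ⊤)).op t := by
          have h3 : q.app W' a = Q.presheaf.map (homOfLE (inf_le_left : W' ≤ W x)).op (q.app (W x) (s x)) :=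
            ConcreteCategory.congr_hom (q.mapPresheaf.naturality (homOfLE (inf_le_left : W' ≤ W x)).op) (s x)
          rw [h3, hs x, ← ConcreteCategory.comp_apply, ← Functor.map_comp]
          rfl
        have hb : q.app W' b = Q.presheaf.map (homOfLE (le_top : W' ≤ ⊤)).op t := by
          have h3 : q.app W' b = Q.presheaf.map (homOfLE (inf_le_right : W' ≤ W y)).op (q.app (W y) (s y)) :=
            ConcreteCategory.congr_hom (q.mapPresheaf.naturality (homOfLE (inf_le_right : W' ≤ W y)).op) (s y)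
          rw [h3, hs y, ← ConcreteCategory.comp_apply, ← Functor.map_comp]
          rfl
        rw [map_sub, ha, hb, sub_self]
      obtain ⟨g, hg⟩ := CohqB.QC4.exists_of_exact hS W' (a - b) hab
      have h2 : rat V (s x) - rat V (s y) = X.germToFunctionField W' g := by
        rw [← rat_unit V g, ← rat_res V (inf_le_left : W' ≤ W x) (s x),
          ← rat_res V (inf_le_right : W' ≤ W y) (s y), ← rat_sub]
        exact congrArg (rat V) hg.symm
      rw [h2]
      exact germToFunctionField_mem_loc (V := W') g ⟨hzx, hzy⟩)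
  have h0 : ∀ x, Q.presheaf.map (homOfLE (le_top : W x ≤ ⊤)).op t = 0 := by
    intro x
    obtain ⟨g, hg⟩ := exists_section (W x) (rat V (s x)) (key x)
    have h3 : (unitJ V).app (W x) g = s x := rat_injective V ((rat_unit V g).trans hg)
    rw [← hs x, ← h3]
    exact CohqB.QC4.app_comp_eq_zero (S := ShortComplex.mk (unitJ V) q w) (W x) g
  exact eq_zero_of_locally Q t fun x _ => ⟨W x, le_top, hxW x, h0 x⟩

end

end K374.GRSheaf
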