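import Groth.Agent.PerfC.RpushTrunc
import Groth.Agent.PerfC.RpushSingle
import Groth.Agent.PerfA.TildeSupp
import Groth.Agent.Dcoh.DerPull
import Groth.Agent.Resolve.K374.GRSheaf
import Groth.Agent.Resolve.K374.ModBasic
import Groth.Agent.LoccohB.PnDual287d
import Groth.Agent.LoccohB.DCalc

/-!
# `Hom(κ[-1], Rf_* O_X) = 0` for a normal modification
-/

set_option autoImplicit false
universe w v u
open CategoryTheory CategoryTheory.Limits AlgebraicGeometry TopologicalSpace Opposite Pretriangulated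

attribute [local instance] HasDerivedCategory.standard

namespace K374.GRDer

open Groth.Agent Groth.Agent.LoccohB Groth.Agent.LoccohB.PnDual287 K374.GRSheaf K374.PtFib
  DerivedCategory

section Abs

variable {C : Type u} [Category.{v} C] [Abelian C] [HasDerivedCategory.{w} C]

lemma eq_zero_of_epi {M N : C} (q : M ⟶ N) [Epi q] (n : ℤ) (Y : DerivedCategory C) [Y.IsGE n]
    (φ : (singleFunctor C n).obj N ⟶ Y) (h : (singleFunctor C n).map q ≫ φ = 0) : φ = 0 := by
  apply Cohder.TruncFactor.hom_eq_zero n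
  have h1 : (singleFunctorCompHomologyFunctorIso C n).hom.app M ≫ q =
      (homologyFunctor C n).map ((singleFunctor C n).map q) ≫
        (singleFunctorCompHomologyFunctorIso C n).hom.app N :=
    ((singleFunctorCompHomologyFunctorIso C n).hom.naturality q).symm
  have h2 : Epi ((homologyFunctor C n).map ((singleFunctor C n).map q)) := by
    have h3 : (homologyFunctor C n).map ((singleFunctor C n).map q) =
        ((singleFunctorCompHomologyFunctorIso C n).hom.app M ≫ q) ≫
          (singleFunctorCompHomologyFunctorIso C n).inv.app N := by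
      rw [h1, Category.assoc, Iso.hom_inv_id_app]
      exact (Category.comp_id _).symm
    rw [h3]
    infer_instance
  rw [← cancel_epi ((homologyFunctor C n).map ((singleFunctor C n).map q)), ← Functor.map_comp, h,
    Functor.map_zero, comp_zero]

lemma subsingleton_shift₁ {A B Z : DerivedCategory C} {a : A ⟶ B} {b : B ⟶ Z} {c : Z ⟶ A⟦(1 : ℤ)⟧}
    (hT : Triangle.mk a b c ∈ distTriang (DerivedCategory C)) (K : DerivedCategory C)
    (h1 : Subsingleton (K ⟶ Z)) (h2 : Subsingleton (K ⟶ B⟦(1 : ℤ)⟧)) :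
    Subsingleton (K ⟶ A⟦(1 : ℤ)⟧) := by
  suffices ∀ φ : K ⟶ A⟦(1 : ℤ)⟧, φ = 0 from ⟨fun x y => (this x).trans (this y).symm⟩
  intro φ
  obtain ⟨g, hg⟩ := Triangle.coyoneda_exact₁ _ hT φ (h2.elim _ _)
  have : g = 0 := h1.elim _ _
  rw [hg, this, zero_comp]
  rfl

lemma subsingleton_of_isLE_of_isGE {K L : DerivedCategory C} (a b : ℤ) (h : a < b) [K.IsLE a] [L.IsGE b] :
    Subsingleton (K ⟶ L) :=
  ⟨fun x y => (TStructure.t.zero x a b h).trans (TStructure.t.zero y a b h).symm⟩

end Abs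

section Push

variable {X Y : Scheme.{u}} (f : X ⟶ Y) [DCoh.HasRpush f]

/-- `Hom(K, Rf_* C) = 0` for `K = N[0]`, `N` a quotient of `O_Y`, if `Γ(X, Q) = 0`. -/
theorem subsingleton_top {X : Scheme.{u}} (Q : X.Modules) (h : Subsingleton Γ(Q, ⊤)) :
    Subsingleton (OD X ⟶ DCoh.inD X Q) := by
  suffices ∀ φ : OD X ⟶ DCoh.inD X Q, φ = 0 from ⟨fun x y => (this x).trans (this y).symm⟩
  intro φ
  obtain ⟨ψ, rfl⟩ := (singleFunctor X.Modules 0).map_surjective φ
  have : ψ = 0 := Dcoh.Restrict.unit_hom_ext _ _ (Subsingleton.elim _ _)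
  rw [this, Functor.map_zero]

/-- `j_* M → Rj_* M`: for `P ≅ R^0 j_* M`, `Hom(K, Rf_* P[1]) = 0` if `K ≤ 0` and
`Hom(K, Rf_* Rj_* M[1]) = 0`. -/
theorem subsingleton_H0 (K : DCoh.D Y) [K.IsLE 0] (J : DCoh.D X) [J.IsGE 0] (P : X.Modules)
    (e : DCoh.HD J 0 ≅ P) (h : Subsingleton (K ⟶ ((DCoh.Rpush f).obj J)⟦(1 : ℤ)⟧)) :
    Subsingleton (K ⟶ ((DCoh.Rpush f).obj (DCoh.inD X P))⟦(1 : ℤ)⟧) := by
  obtain ⟨A, B, a, b, c, hT, hA, hB, hi, -⟩ := DQCohBasic.exists_trunc J 0
  have hA' : A.IsGE 0 := by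
    rw [isGE_iff]
    intro i hi0
    have := hi i hi0.le
    exact (isZero_of_isGE J 0 i hi0).of_iso (asIso ((homologyFunctor X.Modules i).map a))
  have hB' : B.IsGE 1 := hB
  have h0 := hi 0 le_rfl
  obtain ⟨eA⟩ := DCalc.nonempty_iso_of_both 0 A (DCoh.inD X P)
    (asIso ((homologyFunctor X.Modules 0).map a) ≪≫ e ≪≫
      ((singleFunctorCompHomologyFunctorIso X.Modules 0).app P).symm)
  obtain ⟨c', hT'⟩ := PerfC.RpushTrunc.exists_triangle f a b c hT
  have hRB := PerfC.RpushTrunc.isGE_Rpush f B 1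
  have h1 : Subsingleton (K ⟶ ((DCoh.Rpush f).obj A)⟦(1 : ℤ)⟧) :=
    subsingleton_shift₁ hT' K (subsingleton_of_isLE_of_isGE 0 1 (by omega)) h
  exact subsingleton_of_iso (Iso.refl _) ((shiftFunctor _ (1 : ℤ)).mapIso ((DCoh.Rpush f).mapIso eA)) h1

end Push

section Closed

variable (A : Type u) [CommRing A] [IsLocalRing A]

theorem smul_residue {s : A} (hs : s ∈ IsLocalRing.maximalIdeal A) (x : IsLocalRing.ResidueField A) :
    s • x = 0 := by
  obtain ⟨t, rfl⟩ := IsLocalRing.residue_surjective x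
  rw [Algebra.smul_def, IsLocalRing.ResidueField.algebraMap_eq, ← map_mul,
    IsLocalRing.residue_eq_zero_iff]
  exact Ideal.mul_mem_right _ _ hs

/-- The residue field sheaf restricts to zero on the punctured spectrum. -/
theorem isZero_restrictD {V : Scheme.{u}} (h : V ⟶ Spec (CommRingCat.of A)) [IsOpenImmersion h]
    (hV : ∀ y : V, h y ≠ IsLocalRing.closedPoint A) [PreservesFiniteLimits (tilde.functor (CommRingCat.of A))] :
    IsZero ((DCoh.restrictD h).obj ((DCoh.tildeD (CommRingCat.of A)).obj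
      (Dual.inD A (IsLocalRing.ResidueField A)))) := by
  have h1 := (PerfA.TildeSupp.isZero_restrictD_tildeD_iff (R := CommRingCat.of A)
    (Dual.inD A (IsLocalRing.ResidueField A)) h).2
  refine h1 fun i y m => ?_
  by_cases hi : i = 0
  · subst hi
    have h2 : ¬ IsLocalRing.maximalIdeal A ≤ (h y).asIdeal := by
      intro h3
      apply hV y
      have h4 := (IsLocalRing.maximalIdeal.isMaximal A).eq_of_le (h y).2.ne_top h3
      exact PrimeSpectrum.ext h4.symm
    obtain ⟨s, hs, hs'⟩ := Set.not_subset.1 h2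
    refine ⟨s, hs', ?_⟩
    let e := ((singleFunctorCompHomologyFunctorIso (ModuleCat.{u} A) 0).app
      (ModuleCat.of A (IsLocalRing.ResidueField A))).toLinearEquiv
    apply e.injective
    rw [map_smul, map_zero]
    exact smul_residue A hs (e m)
  · refine ⟨1, fun h2 => (h y).2.ne_top ((Ideal.eq_top_iff_one _).2 h2), ?_⟩
    have h3 : IsZero ((homologyFunctor (ModuleCat.{u} A) i).obj (Dual.inD A (IsLocalRing.ResidueField A))) := by
      rcases lt_or_gt_of_ne hi with hi | hi
      · exact isZero_of_isGE _ 0 i hi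
      · exact isZero_of_isLE _ 0 i hi
    have h4 := ModuleCat.isZero_iff_subsingleton.1 h3
    exact Subsingleton.elim _ _

end Closed

section Tilde

variable (R : CommRingCat.{u})

/-- `tildeD` on modules. -/
noncomputable def tildeSingle [PreservesFiniteLimits (tilde.functor R)] (M : ModuleCat.{u} R) :
    (DCoh.tildeD R).obj ((singleFunctor (ModuleCat.{u} R) 0).obj M) ≅
      DCoh.inD _ ((tilde.functor R).obj M) :=
  ((tilde.functor R).mapDerivedCategorySingleFunctor 0).app M

theorem epi_tilde {M N : ModuleCat.{u} R} (q : M ⟶ N) [Epi q] : Epi ((tilde.functor R).map q) :=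
  inferInstance

end Tilde

section Main

variable {A : Type u} [CommRing A] [IsLocalRing A] {X : Scheme.{u}}
  (f : X ⟶ Spec (CommRingCat.of A)) [DCoh.HasRpush f]
  [PreservesFiniteLimits (tilde.functor (CommRingCat.of A))]

/-- The residue field sheaf in the derived category. -/
noncomputable abbrev Kt (A : Type u) [CommRing A] [IsLocalRing A]
    [PreservesFiniteLimits (tilde.functor (CommRingCat.of A))] : DCoh.D (Spec (CommRingCat.of A)) :=
  (DCoh.tildeD (CommRingCat.of A)).obj (Dual.inD A (IsLocalRing.ResidueField A))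

/-- The residue field sheaf. -/
noncomputable abbrev κt (A : Type u) [CommRing A] [IsLocalRing A] : (Spec (CommRingCat.of A)).Modules :=
  (tilde.functor (CommRingCat.of A)).obj (ModuleCat.of A (IsLocalRing.ResidueField A))

variable (A) in
noncomputable def ktIso : Kt A ≅ DCoh.inD _ (κt A) :=
  tildeSingle (CommRingCat.of A) (ModuleCat.of A (IsLocalRing.ResidueField A))

/-- `O_S ⟶ κ~`. -/
noncomputable def quo (A : Type u) [CommRing A] [IsLocalRing A] :
    Coh.structureModule (Spec (CommRingCat.of A)) ⟶ κt A :=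
  (tilde.functor (CommRingCat.of A)).map (X := ModuleCat.of A A)
    (ModuleCat.ofHom (Algebra.linearMap A (IsLocalRing.ResidueField A)))

instance : Epi (quo A) := by
  have : Epi (ModuleCat.ofHom (Algebra.linearMap A (IsLocalRing.ResidueField A))) :=
    (ModuleCat.epi_iff_surjective _).2 IsLocalRing.residue_surjective
  exact epi_tilde (CommRingCat.of A) (M := ModuleCat.of A A)
    (N := ModuleCat.of A (IsLocalRing.ResidueField A))
    (ModuleCat.ofHom (Algebra.linearMap A (IsLocalRing.ResidueField A)))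

/-- `Hom(κ~, Rf_* Q) = 0` if `Γ(X, Q) = 0`. -/
theorem subsingleton_Q (Q : X.Modules) (h : Subsingleton Γ(Q, ⊤)) :
    Subsingleton (DCoh.inD _ (κt A) ⟶ (DCoh.Rpush f).obj (DCoh.inD X Q)) := by
  let : X.Over (Spec (CommRingCat.of A)) := ⟨f⟩
  obtain ⟨L, ad, e, -⟩ := exists_adj (A := A) (X := X) (f := f) rfl
  have hGE := PerfC.RpushTrunc.isGE_Rpush f (DCoh.inD X Q) 0
  suffices ∀ φ : DCoh.inD _ (κt A) ⟶ (DCoh.Rpush f).obj (DCoh.inD X Q), φ = 0 from
    ⟨fun x y => (this x).trans (this y).symm⟩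
  intro φ
  have h1 : Subsingleton (OD (Spec (CommRingCat.of A)) ⟶ (DCoh.Rpush f).obj (DCoh.inD X Q)) := by
    have := subsingleton_top Q h
    exact (homEquivOD ad e (DCoh.inD X Q)).subsingleton
  exact eq_zero_of_epi (quo A) 0 _ φ (h1.elim _ _)

/-- `Hom(κ~, Rh_* N) = 0` for an open immersion missing the closed point. -/
theorem subsingleton_open {V : Scheme.{u}} (h : V ⟶ Spec (CommRingCat.of A)) [IsOpenImmersion h]
    (hV : ∀ y : V, h y ≠ IsLocalRing.closedPoint A) [DCoh.HasRpush h] (N : DCoh.D V) :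
    Subsingleton (DCoh.inD _ (κt A) ⟶ (DCoh.Rpush h).obj N) := by
  have h1 := (isZero_restrictD A h hV).of_iso ((DCoh.restrictD h).mapIso (ktIso A).symm)
  have h2 : Subsingleton ((DCoh.restrictD h).obj (DCoh.inD _ (κt A)) ⟶ N) :=
    ⟨fun x y => h1.eq_of_src x y⟩
  exact ((Dcoh.DerSch.restrictAdj h).homEquiv _ _).symm.subsingleton

end Main

section GR

variable {A : Type u} [CommRing A] [IsDomain A] [IsLocalRing A] [IsNoetherianRing A] [IsIntegrallyClosed A]
  (hdim : ringKrullDim A = 2) {X : Scheme.{u}} (f : X ⟶ Spec (CommRingCat.of A)) [IsProper f] [IsIntegral X]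
  (hXn : Pi1.IsNormalScheme X)
  (hbir : ∃ U : (Spec (CommRingCat.of A)).Opens, (U : Set (Spec (CommRingCat.of A))).Nonempty ∧ IsIso (f ∣_ U))
  [PreservesFiniteLimits (tilde.functor (CommRingCat.of A))] [DCoh.HasRpush f]

include hdim hXn hbir in
/-- `Hom(κ~, Rf_* O_X[1]) = 0`. -/
theorem subsingleton_hom :
    Subsingleton (DCoh.inD _ (κt A) ⟶ ((DCoh.Rpush f).obj (OD X))⟦(1 : ℤ)⟧) := by
  have hpun := isIso_punctured f hdim hbir
  let V : X.Opens := f ⁻¹ᵁ (punctured A)
  have hVne : Nonempty V := by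
    have hp := ModBasic.punctured_nonempty (A := A) hdim
    exact ⟨(inv (f ∣_ punctured A)).base ⟨_, hp⟩⟩
  have hV : ∀ x : X, f x ≠ IsLocalRing.closedPoint A → x ∈ V := fun x hx => hx
  have hopen : IsOpenImmersion (V.ι ≫ f) := by
    rw [← morphismRestrict_ι]
    infer_instance
  have hVcl : ∀ y : V, (V.ι ≫ f) y ≠ IsLocalRing.closedPoint A := fun y => y.2
  have := Dcoh.DerSch.hasRpush V.ι
  have := Dcoh.DerSch.hasRpush (V.ι ≫ f)
  let M : (V : Scheme.{u}).Modules := (Scheme.Modules.restrictFunctor V.ι).obj (OX X)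
  let J : DCoh.D X := (DCoh.Rpush V.ι).obj (DCoh.inD _ M)
  have hJ : J.IsGE 0 := PerfC.RpushTrunc.isGE_Rpush V.ι (DCoh.inD _ M) 0
  have := PerfC.RpushTrunc.enoughInjectives (V : Scheme.{u})
  let e0 : DCoh.HD J 0 ≅ jj V :=
    PerfC.RpushSingle.iso V.ι 0 M ≪≫
      (Scheme.Modules.pushforward V.ι).rightDerivedZeroIsoSelf.app M
  obtain ⟨ec⟩ := Dcoh.DerPull.exists_rpushCompIso V.ι f
  have h1 : Subsingleton (DCoh.inD _ (κt A) ⟶ ((DCoh.Rpush f).obj J)⟦(1 : ℤ)⟧) := by
    have h2 := subsingleton_open (V.ι ≫ f) hVcl ((DCoh.inD _ M)⟦(1 : ℤ)⟧)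
    exact subsingleton_of_iso (Iso.refl _)
      (DQCohBasic.rpushShiftIso (V.ι ≫ f) (DCoh.inD _ M) 1 ≪≫
        (shiftFunctor _ (1 : ℤ)).mapIso (ec.symm.app (DCoh.inD _ M))) h2
  have h3 := subsingleton_H0 f (DCoh.inD _ (κt A)) J (jj V) e0 h1
  -- the quotient
  let S := ShortComplex.mk (unitJ V) (cokernel.π (unitJ V)) (cokernel.condition _)
  have hS : S.Exact := ShortComplex.exact_of_g_is_cokernel S (cokernelIsCokernel (unitJ V))
  have hSS : S.ShortExact :=
    { exact := hS
      mono_f := inferInstanceAs (Mono (unitJ V))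
      epi_g := inferInstanceAs (Epi (cokernel.π (unitJ V))) }
  have h4 := GRSheaf.subsingleton_top hdim f hXn hbir V hV (cokernel (unitJ V)) (cokernel.π (unitJ V))
    (cokernel.condition _) hS
  have h5 := subsingleton_Q f (cokernel (unitJ V)) h4
  obtain ⟨c', hT'⟩ := PerfC.RpushTrunc.exists_triangle f _ _ _ hSS.singleTriangle_distinguished
  exact subsingleton_shift₁ hT' _ h5 h3

end GR

end K374.GRDer
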