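import Groth.Agent.PerfB.TensInv
import Groth.Agent.Sga5.H835.Twist
import Groth.Agent.CurvesC.HomHV
import Groth.Agent.Grpsch.PicGrp
import Groth.Agent.Resolve.K374.GRDer

/-!
# `Ext^1(L, W)` and `H^1(X, W ⊗ L⁻¹)`
-/

set_option autoImplicit false
universe u
open CategoryTheory CategoryTheory.Limits AlgebraicGeometry

attribute [local instance] HasDerivedCategory.standard

namespace K374.ExtTwist

open Groth.Agent DerivedCategory Groth.Agent.LoccohB Groth.Agent.LoccohB.PnDual287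

variable {X : Scheme.{u}}

theorem isEquivalence {L L' : X.Modules} (e : CohB1.tensorMod L L' ≅ Coh.structureModule X) :
    (DCoh.tensorRightMod L').IsEquivalence := by
  have e' : CohB1.tensorMod L' L ≅ Coh.structureModule X := Ega2.Tens.swap _ _ ≪≫ e
  exact (CategoryTheory.Equivalence.mk (DCoh.tensorRightMod L') (DCoh.tensorRightMod L)
    (PerfB.TensInv.tensorInvIso e').symm (PerfB.TensInv.tensorInvIso e)).isEquivalence_functor

/-- `Hom(L, W[1]) = 0` implies `Hom(L ⊗ L', (W ⊗ L')[1]) = 0`. -/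
theorem subsingleton_map {C : Type*} [Category C] [Abelian C] [HasDerivedCategory C] (T : C ⥤ C) [T.Additive]
    [T.IsEquivalence] (M W : C) (h : Subsingleton ((singleFunctor C 0).obj M ⟶ ((singleFunctor C 0).obj W)⟦(1 : ℤ)⟧)) :
    Subsingleton ((singleFunctor C 0).obj (T.obj M) ⟶ ((singleFunctor C 0).obj (T.obj W))⟦(1 : ℤ)⟧) := by
  have h1 : PreservesFiniteLimits T := inferInstance
  have h2 : PreservesFiniteColimits T := inferInstance
  have h3 := Sga5.H835.Twist.isEquivalence_mapDerivedCategory T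
  let F := T.mapDerivedCategory
  have h4 : Subsingleton (F.obj ((singleFunctor C 0).obj M) ⟶ F.obj (((singleFunctor C 0).obj W)⟦(1 : ℤ)⟧)) :=
    (F.map_surjective (X := (singleFunctor C 0).obj M) (Y := ((singleFunctor C 0).obj W)⟦(1 : ℤ)⟧)).subsingleton
  let e1 : F.obj ((singleFunctor C 0).obj M) ≅ (singleFunctor C 0).obj (T.obj M) :=
    (T.mapDerivedCategorySingleFunctor 0).app M
  let e2 : F.obj ((singleFunctor C 0).obj W) ≅ (singleFunctor C 0).obj (T.obj W) :=
    (T.mapDerivedCategorySingleFunctor 0).app W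
  let e3 : F.obj (((singleFunctor C 0).obj W)⟦(1 : ℤ)⟧) ≅ ((singleFunctor C 0).obj (T.obj W))⟦(1 : ℤ)⟧ :=
    (F.commShiftIso (1 : ℤ)).app _ ≪≫ (shiftFunctor _ (1 : ℤ)).mapIso e2
  exact (Iso.homCongr e1 e3).symm.subsingleton

/-- `Ext^1(L, W) = 0` implies `H^1(X, W ⊗ L⁻¹) = 0`. -/
theorem subsingleton_HH {L L' : X.Modules} (e : CohB1.tensorMod L L' ≅ Coh.structureModule X) (W : X.Modules)
    (h : Subsingleton (DCoh.inD X L ⟶ (DCoh.inD X W)⟦(1 : ℤ)⟧)) :
    Subsingleton (Coh.HH X (CohB1.tensorMod W L') 1) := by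
  have := isEquivalence e
  have h1 : Subsingleton (DCoh.inD X (CohB1.tensorMod L L') ⟶ (DCoh.inD X (CohB1.tensorMod W L'))⟦(1 : ℤ)⟧) :=
    subsingleton_map (DCoh.tensorRightMod L') L W h
  have h2 : Subsingleton (OD X ⟶ (DCoh.inD X (CohB1.tensorMod W L'))⟦(1 : ℤ)⟧) :=
    subsingleton_of_iso ((singleFunctor X.Modules 0).mapIso e) (Iso.refl _) h1
  exact (CurvesC.HomHV.homHV (CohB1.tensorMod W L') 1).symm.toEquiv.subsingleton

end K374.ExtTwist
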