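import Groth.Agent.Resolve.K374.ModBasic
import Groth.Agent.CurvesC.CurveNum

/-!
# `H^0(X, O_X) = A` for a modification
-/

set_option autoImplicit false
universe u
open CategoryTheory CategoryTheory.Limits AlgebraicGeometry TopologicalSpace Opposite

namespace K374.ModBasic

open Groth.Agent

variable {A : Type u} [CommRing A] [IsDomain A] [IsLocalRing A] [IsNoetherianRing A] [IsIntegrallyClosed A]
  (hdim : ringKrullDim A = 2) {X : Scheme.{u}} (f : X ⟶ Spec (CommRingCat.of A)) [IsProper f] [IsIntegral X]
  (hbir : ∃ U : (Spec (CommRingCat.of A)).Opens, (U : Set (Spec (CommRingCat.of A))).Nonempty ∧ IsIso (f ∣_ U))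

include hdim hbir in
theorem bijective_toGlobal : Function.Bijective (Coh.toGlobal f) := by
  have h1 := isIso_appTop hdim f hbir
  have h2 : Function.Bijective (f.appTop).hom := (ConcreteCategory.isIso_iff_bijective _).1 h1
  have h3 : Function.Bijective (Scheme.ΓSpecIso (CommRingCat.of A)).inv.hom :=
    (ConcreteCategory.isIso_iff_bijective (Scheme.ΓSpecIso (CommRingCat.of A)).inv).1 inferInstance
  exact h2.comp h3

include hdim hbir in
theorem nonempty_HH_zero [X.Over (Spec (CommRingCat.of A))] (hf : X ↘ Spec (CommRingCat.of A) = f) :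
    Nonempty (Coh.HH X (Coh.structureModule X) 0 ≃ₗ[A] A) := by
  subst hf
  let := CurvesC.CurveNum.topMod A X
  let φ := Coh.toGlobal (X ↘ Spec (CommRingCat.of A))
  have hb : Function.Bijective φ := bijective_toGlobal hdim _ hbir
  let l : A →ₗ[A] Coh.Γtop X :=
    { toFun := φ
      map_add' := map_add φ
      map_smul' := fun r x => by
        change φ (r * x) = φ r * φ x
        exact map_mul φ r x }
  exact ⟨(CurvesC.CurveNum.hZeroTop A X).trans (LinearEquiv.ofBijective l hb).symm⟩

end K374.ModBasic
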