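import Groth.Agent.Resolve.K374.ShriekGE
import Groth.Agent.Resolve.K374.HZero
import Groth.Agent.CurvesC.UnitCoh

/-!
# Grauert-Riemenschneider: `H^1(X, ω_X) = 0`
-/

set_option autoImplicit false
universe u
open CategoryTheory CategoryTheory.Limits AlgebraicGeometry TopologicalSpace Opposite Pretriangulated

attribute [local instance] HasDerivedCategory.standard

namespace K374.GROmega

open Groth.Agent Groth.Agent.LoccohB Groth.Agent.LoccohB.PnDual287 DerivedCategory Groth.Agent.CurvesC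
  K374.ShriekGE

variable {A : Type u} [CommRing A] [IsDomain A] [IsLocalRing A] [IsNoetherianRing A] [IsIntegrallyClosed A]
  (hdim : ringKrullDim A = 2) {X : Scheme.{u}} (f : X ⟶ Spec (CommRingCat.of A)) [IsProper f] [IsIntegral X]
  (hXn : Pi1.IsNormalScheme X)
  (hbir : ∃ U : (Spec (CommRingCat.of A)).Opens, (U : Set (Spec (CommRingCat.of A))).Nonempty ∧ IsIso (f ∣_ U))
  {ωA : Type u} [AddCommGroup ωA] [Module A ωA] (hω : Dual.IsDualizing A (Dual.inD A ωA))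
  [PreservesFiniteLimits (tilde.functor (CommRingCat.of A))]
  [DCoh.HasRpush f] (h : DCoh.RpushPreservesQCoh f) [DCoh.HasShriek f h]
  (WA : DCoh.DQCoh (Spec (CommRingCat.of A)))
  (eW : WA.obj ≅ (DCoh.tildeD (CommRingCat.of A)).obj (Dual.inD A ωA))

include hdim hXn hbir hω h eW in
omit [DCoh.HasShriek f h] in
/-- `Hom(Rf_* O_X, ω_A[1]) = 0`. -/
theorem subsingleton_hom_push :
    Subsingleton ((DCoh.Rpush f).obj (OD X) ⟶ WA.obj⟦(1 : ℤ)⟧) := by
  let : X.Over (Spec (CommRingCat.of A)) := ⟨f⟩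
  have : DCoh.HasRpush (X ↘ Spec (CommRingCat.of A)) := inferInstanceAs (DCoh.HasRpush f)
  have : IsProper (X ↘ Spec (CommRingCat.of A)) := inferInstanceAs (IsProper f)
  obtain ⟨K, ⟨e⟩⟩ := PerfA.TildeMain.exists_iso (CommRingCat.of A) ((DCoh.Rpush f).obj (OD X))
    (h _ (isQCohD_OD X))
  have hc : Coh.IsCoh (Coh.structureModule X) :=
    have : IsLocallyNoetherian X := LocallyOfFiniteType.isLocallyNoetherian f
    Groth.Agent.CurvesC.UnitCoh.isCoh_unit X
  have hGE : ((DCoh.Rpush f).obj (OD X)).IsGE 0 := PerfC.RpushTrunc.isGE_Rpush f _ 0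
  have hLE : ((DCoh.Rpush f).obj (OD X)).IsLE 1 := hle hdim f hbir _ hc 0
  have h1 : K.IsGE 0 := RGam.isGE_of_iso (A := A) e 0 hGE
  have h2 : K.IsLE 1 := RGam.isLE_of_iso (A := A) e 1 hLE
  obtain ⟨l⟩ := K374.ModBasic.nonempty_HH_zero hdim f hbir rfl
  obtain ⟨l0⟩ := RGam.nonempty_HD (A := A) (X := X) (Coh.structureModule X) (isQCohD_OD X) e 0
  obtain ⟨l1⟩ := RGam.nonempty_HD (A := A) (X := X) (Coh.structureModule X) (isQCohD_OD X) e 1
  have hf : Module.Finite A (Dual.HD A K 1) :=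
    have := Tors.finite_HH A (X := X) (Coh.structureModule X) hc 1
    Module.Finite.equiv l1.symm
  have hκ : Subsingleton (Dual.inD A (IsLocalRing.ResidueField A) ⟶ K⟦(1 : ℤ)⟧) :=
    (RGam.subsingleton_hom_iff (A := A) (GRDer.ktIso A) e 1).1 (GRDer.subsingleton_hom hdim f hXn hbir)
  have h3 := OmegaA.subsingleton_hom_one hdim hω K h1 h2 (l0 ≪≫ₗ l) hf hκ
  exact (RGam.subsingleton_hom_iff (A := A) e eW.symm 1).2 h3

include hdim hXn hbir hω h eW in
/-- `Hom(O_X, f^! ω_A[1]) = 0`. -/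
theorem subsingleton_hom_shriek :
    Subsingleton (OD X ⟶ ((DCoh.shriek f h).obj WA).obj⟦(1 : ℤ)⟧) := by
  have h1 := subsingleton_hom_push hdim f hXn hbir hω h WA eW
  have h2 : Subsingleton (((DCoh.Rpush f).obj (OD X))⟦(-1 : ℤ)⟧ ⟶ WA.obj) :=
    subsingleton_of_shift (-1 : ℤ) h1
  let P : DCoh.DQCoh X := ⟨(OD X)⟦(-1 : ℤ)⟧, DQCohBasic.isQCohD_shift (isQCohD_OD X) _⟩
  have h3 : Subsingleton ((DCoh.Rpush f).obj P.obj ⟶ WA.obj) :=
    subsingleton_of_iso (DQCohBasic.rpushShiftIso f (OD X) (-1)).symm (Iso.refl _) h2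
  have h4 : Subsingleton (P.obj ⟶ ((DCoh.shriek f h).obj WA).obj) :=
    (AdjD.adjHom (DCoh.shriekAdj f h) P WA).symm.subsingleton
  exact (shiftHomEquiv (OD X) ((DCoh.shriek f h).obj WA).obj (-1)).symm.subsingleton

include hdim hXn hbir hω eW in
/-- `H^1(X, ω_X) = 0`. -/
theorem subsingleton_HH : Subsingleton (Coh.HH X (DCoh.HD ((DCoh.shriek f h).obj WA).obj 0) 1) := by
  have h1 := subsingleton_hom_shriek hdim f hXn hbir hω h WA eW
  have hW := isGE_shriek hdim f hbir hω h WA eW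
  obtain ⟨P, B, a, b, c, hT, hP, hB, hi, -⟩ := DQCohBasic.exists_trunc ((DCoh.shriek f h).obj WA).obj 0
  have hP' : P.IsGE 0 := by
    rw [isGE_iff]
    intro i hi0
    have := hi i hi0.le
    exact (isZero_of_isGE _ 0 i hi0).of_iso (asIso ((homologyFunctor X.Modules i).map a))
  have hB' : B.IsGE 1 := hB
  have h0 := hi 0 le_rfl
  obtain ⟨eP⟩ := DCalc.nonempty_iso_of_both 0 P (DCoh.inD X (DCoh.HD ((DCoh.shriek f h).obj WA).obj 0))
    (asIso ((homologyFunctor X.Modules 0).map a) ≪≫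
      ((singleFunctorCompHomologyFunctorIso X.Modules 0).app _).symm)
  have h2 : Subsingleton (OD X ⟶ P⟦(1 : ℤ)⟧) :=
    GRDer.subsingleton_shift₁ hT (OD X) (GRDer.subsingleton_of_isLE_of_isGE 0 1 (by norm_num)) h1
  have h3 : Subsingleton (OD X ⟶ (DCoh.inD X (DCoh.HD ((DCoh.shriek f h).obj WA).obj 0))⟦(1 : ℤ)⟧) :=
    subsingleton_of_iso (Iso.refl _) ((shiftFunctor _ (1 : ℤ)).mapIso eP) h2
  exact (CurvesC.HomHV.homHV (DCoh.HD ((DCoh.shriek f h).obj WA).obj 0) 1).symm.toEquiv.subsingleton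

end K374.GROmega
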