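import Groth.Agent.CurvesC.RatPow
import Groth.Agent.Ega1.AmpFamBlow
import Groth.Agent.Sga5.AmpleFib
import Groth.Agent.Dix.IdealModCartier
import Groth.Agent.Divis.SurfConn
import Groth.Agent.Ega2.RelAmp
import Groth.Agent.Ega2.AmpleAff

/-!
# The normalized blow-up of an ideal: ampleness of the inverse image ideal
-/

set_option autoImplicit false
universe u
open CategoryTheory CategoryTheory.Limits AlgebraicGeometry

namespace K374.NormBl

open Groth.Agent Groth.Agent.CurvesC Groth.Agent.CurvesC.ExtIdeal Groth.Agent.CurvesC.Modif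
  Groth.Agent.CurvesC.RatPow

/-- The exceptional ideal of a blow-up of an affine scheme is ample. -/
theorem isAmple_exceptional {A : Type u} [CommRing A] {X : Scheme.{u}} {f : X ⟶ Spec (CommRingCat.of A)}
    {J : (Spec (CommRingCat.of A)).IdealSheafData} (hb : BlowUp.IsBlowUp f J) [QuasiCompact f] :
    CohB1.IsAmple (ClSub.idealMod (J.comap f)) := by
  have h1 : RelAmple.IsRelAmple f (ClSub.idealMod (J.comap f)) :=
    ⟨inferInstance, fun V => Groth.Agent.Ega1.AmpFamBlow.isAmple_restrict hb V _ rfl⟩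
  exact Ega2.RelAmp.isRelAmple_iff_isAmple.1 h1

theorem exists_normBl {A : Type u} [CommRing A] [IsDomain A] [IsIntegrallyClosed A] (hN : CAlg.IsNagata A)
    (J : Ideal A) (hJ : J ≠ ⊥) (hfg : J.FG) :
    ∃ (X : Scheme.{u}) (f : X ⟶ Spec (CommRingCat.of A)), IsModif f ∧ Pi1.IsNormalScheme X ∧
      BlowUp.IsEffCartierIdeal (ext f J) ∧ CohB1.IsAmple (extMod f J) := by
  obtain ⟨X, b, hb⟩ := Flat2C.BlowExist.exists_isBlowUp (Curv2.idealSheaf A J)
  have hb' : IsModif b := IsModif.of_isBlowUp (idealSheaf_ne_bot hJ) (isFiniteTypeIdeal_idealSheaf hfg) hb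
  obtain ⟨X', ν, hν, hνf, hX'⟩ := hb'.exists_normalization hN
  have := hν.integral
  have := hb'.integral
  have := hb'.proper
  have hsurj := hν.surjective
  have hE : BlowUp.IsEffCartierIdeal ((ext b J).comap ν) := Divis.SurfConn.isEff_comap_of_surjective ν hb.1
  have hE' : (ext b J).comap ν = ext (ν ≫ b) J := (Scheme.IdealSheafData.comap_comp _ _ _).symm
  refine ⟨X', ν ≫ b, hν.comp hb', hX', hE' ▸ hE, ?_⟩
  obtain ⟨e⟩ := Dix.IdealModCartier.pullback_idealMod ν hb.1 hE
  have h1 := Sga5.AmpleFib.isAmple_pullback ν (isAmple_exceptional hb)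
  have h2 := Ega2.Weight.isAmple_of_iso e h1
  change CohB1.IsAmple (ClSub.idealMod (ext (ν ≫ b) J))
  rw [← hE']
  exact h2

end K374.NormBl
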