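import Groth.Agent.Resolve.K374.OmegaA
import Groth.Agent.Resolve.K376.TypeDual

/-!
# The dualizing module of a two-dimensional local domain is isomorphic to an ideal of depth two
-/

set_option autoImplicit false
universe u
open CategoryTheory CategoryTheory.Limits

attribute [local instance] HasDerivedCategory.standard

namespace K374.OmIdeal

open Groth.Agent Groth.Agent.Localalg.DGor

section alg

variable {A : Type u} [CommRing A] [IsDomain A] {W : Type u} [AddCommGroup W] [Module A W]

/-- A finitely generated torsion free module has a nonzero functional. -/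
theorem exists_functional [Module.Finite A W] (htf : ∀ (a : A), a ≠ 0 → ∀ x : W, a • x = 0 → x = 0)
    (x : W) (hx : x ≠ 0) : ∃ l : W →ₗ[A] A, l x ≠ 0 := by
  classical
  let K := FractionRing A
  let V := LocalizedModule (nonZeroDivisors A) W
  let j : W →ₗ[A] V := LocalizedModule.mkLinearMap (nonZeroDivisors A) W
  have hj : j x ≠ 0 := by
    intro h
    rw [IsLocalizedModule.eq_zero_iff (nonZeroDivisors A) j] at h
    obtain ⟨c, hc⟩ := h
    exact hx (htf c.1 (nonZeroDivisors.ne_zero c.2) x hc)
  obtain ⟨φ, hφ⟩ : ∃ φ : Module.Dual K V, φ (j x) ≠ 0 := by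
    by_contra hcon
    push Not at hcon
    exact hj ((Module.forall_dual_apply_eq_zero_iff K (j x)).1 hcon)
  let ψ : W →ₗ[A] K := (φ.restrictScalars A).comp j
  obtain ⟨S, hS⟩ := (inferInstance : Module.Finite A W)
  obtain ⟨d, hd⟩ := IsLocalization.exist_integer_multiples_of_finset (nonZeroDivisors A) (S.image ψ)
  let R : Submodule A K := LinearMap.range (Algebra.linearMap A K)
  have h1 : ∀ w : W, (d : A) • ψ w ∈ R := by
    intro w
    have h2 : w ∈ Submodule.span A (S : Set W) := by rw [hS]; trivial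
    induction h2 using Submodule.span_induction with
    | mem w hw =>
      obtain ⟨b, hb⟩ := hd (ψ w) (Finset.mem_image_of_mem _ hw)
      exact ⟨b, hb⟩
    | zero => rw [map_zero, smul_zero]; exact Submodule.zero_mem _
    | add a b _ _ ha hb => rw [map_add, smul_add]; exact Submodule.add_mem _ ha hb
    | smul a b _ hb => rw [map_smul, smul_comm]; exact Submodule.smul_mem _ _ hb
  let ψ' : W →ₗ[A] R := ((d : A) • ψ).codRestrict R h1
  let e : A ≃ₗ[A] R := LinearEquiv.ofInjective (Algebra.linearMap A K) (IsFractionRing.injective A K)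
  refine ⟨e.symm.toLinearMap.comp ψ', fun h0 => ?_⟩
  have h3 : ψ' x = 0 := by
    have : e.symm (ψ' x) = 0 := h0
    exact (LinearEquiv.map_eq_zero_iff _).1 this
  have h4 : (d : A) • ψ x = 0 := congrArg Subtype.val h3
  rw [Algebra.smul_def, mul_eq_zero] at h4
  rcases h4 with h4 | h4
  · exact (nonZeroDivisors.ne_zero d.2) (IsFractionRing.injective A K (by rw [h4, map_zero]))
  · exact hφ h4

/-- A finite torsion free faithful module all of whose endomorphisms are scalars is isomorphic to a nonzero ideal. -/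
theorem exists_ideal [Module.Finite A W] (htf : ∀ (a : A), a ≠ 0 → ∀ x : W, a • x = 0 → x = 0)
    (hnt : Nontrivial W) (hend : ∀ f : W →ₗ[A] W, ∃ c : A, ∀ w, f w = c • w) :
    ∃ J : Ideal A, J ≠ ⊥ ∧ Nonempty (W ≃ₗ[A] J) := by
  obtain ⟨x, hx⟩ := exists_ne (0 : W)
  obtain ⟨l, hl⟩ := exists_functional htf x hx
  have hinj : Function.Injective l := by
    rw [← LinearMap.ker_eq_bot, LinearMap.ker_eq_bot']
    intro w hw
    by_contra hw0
    obtain ⟨c, hc⟩ := hend ((LinearMap.toSpanSingleton A W x).comp l)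
    have h1 := hc w
    rw [LinearMap.comp_apply, hw, map_zero] at h1
    have hc0 : c = 0 := by
      by_contra hc0
      exact hw0 (htf c hc0 w h1.symm)
    have h2 := hc x
    rw [hc0, zero_smul, LinearMap.comp_apply, LinearMap.toSpanSingleton_apply] at h2
    exact hx (htf _ hl x h2)
  refine ⟨LinearMap.range l, ?_, ⟨LinearEquiv.ofInjective l hinj⟩⟩
  intro h
  rw [LinearMap.range_eq_bot] at h
  exact hl (by rw [h, LinearMap.zero_apply])

end alg

section dual

variable {A : Type u} [CommRing A] [IsDomain A] [IsLocalRing A] [IsNoetherianRing A]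
  (hdim : ringKrullDim A = 2) {ωA : Type u} [AddCommGroup ωA] [Module A ωA]
  (hω : Dual.IsDualizing A (Dual.inD A ωA))

omit [IsDomain A] [IsNoetherianRing A] in
include hdim in
theorem maximalIdeal_ne_bot : IsLocalRing.maximalIdeal A ≠ ⊥ := by
  intro h
  have h1 : IsField A := IsLocalRing.isField_iff_maximalIdeal_eq.mpr h
  have h2 := ringKrullDim_eq_zero_of_isField h1
  rw [hdim] at h2
  exact two_ne_zero h2

include hdim hω in
/-- `(J : m) = J` for an ideal `J ≅ ω_A`. -/
theorem mem_of_forall {J : Ideal A} (e : ωA ≃ₗ[A] J) (a : A)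
    (ha : ∀ x ∈ IsLocalRing.maximalIdeal A, x * a ∈ J) : a ∈ J := by
  by_contra hna
  let κ := IsLocalRing.ResidueField A
  have h1 : Subsingleton (Abelian.Ext (ModuleCat.of A κ) (ModuleCat.of A ωA) 1) := by
    rw [← subsingleton_hom_iff]
    exact (OmegaA.ext_kappa hdim hω).1 1 (by norm_num)
  have h2 : Subsingleton (Abelian.Ext (ModuleCat.of A κ) (ModuleCat.of A J) 1) := by
    have e' : ModuleCat.of A ωA ≅ ModuleCat.of A J := e.toModuleIso
    refine ⟨fun x y => ?_⟩
    have h3 : ∀ z : Abelian.Ext (ModuleCat.of A κ) (ModuleCat.of A J) 1, z = 0 := fun z => by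
      have h4 : z.comp (Abelian.Ext.mk₀ e'.inv) (add_zero 1) = 0 := Subsingleton.elim _ _
      have h5 : (z.comp (Abelian.Ext.mk₀ e'.inv) (add_zero 1)).comp (Abelian.Ext.mk₀ e'.hom) (add_zero 1) = z := by
        rw [Abelian.Ext.comp_assoc_of_third_deg_zero, Abelian.Ext.mk₀_comp_mk₀, e'.inv_hom_id,
          Abelian.Ext.comp_mk₀_id]
      rw [← h5, h4, Abelian.Ext.zero_comp]
    rw [h3 x, h3 y]
  have hS := Sga2.RegExt.shortExact_of_submodule (A := A) (N := A) J
  let φ : κ →ₗ[A] (A ⧸ J) :=
    Submodule.liftQ (IsLocalRing.maximalIdeal A) (LinearMap.toSpanSingleton A (A ⧸ J) (Submodule.Quotient.mk a)) (by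
      intro x hx
      rw [LinearMap.mem_ker, LinearMap.toSpanSingleton_apply, ← Submodule.Quotient.mk_smul,
        Submodule.Quotient.mk_eq_zero]
      exact ha x hx)
  obtain ⟨ψ, hψ⟩ := Abelian.Ext.covariant_sequence_exact₃ (ModuleCat.of A κ) hS
    (Abelian.Ext.mk₀ (ModuleCat.ofHom φ)) (zero_add 1) (Subsingleton.elim _ _)
  obtain ⟨ψ, rfl⟩ := Abelian.Ext.homEquiv₀.symm.surjective ψ
  have h3 : ψ ≫ ModuleCat.ofHom J.mkQ = ModuleCat.ofHom φ := by
    apply Abelian.Ext.homEquiv₀.symm.injective
    refine Eq.trans ?_ hψ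
    exact (Abelian.Ext.mk₀_comp_mk₀ _ _).symm
  obtain ⟨t, ht, ht0⟩ := Submodule.exists_mem_ne_zero_of_ne_bot (maximalIdeal_ne_bot (A := A) hdim)
  have h4 : t • ψ.hom (Submodule.Quotient.mk 1) = 0 := by
    rw [← map_smul]
    have h5 : t • (Submodule.Quotient.mk 1 : A ⧸ IsLocalRing.maximalIdeal A) = 0 := by
      rw [← Submodule.Quotient.mk_smul, Submodule.Quotient.mk_eq_zero, smul_eq_mul, mul_one]
      exact ht
    exact (congrArg ψ.hom h5).trans (map_zero _)
  have h6 : ψ.hom (Submodule.Quotient.mk 1) = 0 := (mul_eq_zero.1 h4).resolve_left ht0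
  have h7 : φ (Submodule.Quotient.mk 1) = 0 := by
    have := congr($(h3).hom (Submodule.Quotient.mk 1))
    rw [← show (ModuleCat.ofHom φ).hom (Submodule.Quotient.mk 1) = φ (Submodule.Quotient.mk 1) from rfl, ← this]
    change J.mkQ (ψ.hom (Submodule.Quotient.mk 1)) = 0
    rw [h6, map_zero]
  have h8 : φ (Submodule.Quotient.mk 1) = (Submodule.Quotient.mk a : A ⧸ J) := by
    change (LinearMap.toSpanSingleton A (A ⧸ J) (Submodule.Quotient.mk a)) 1 = _
    rw [LinearMap.toSpanSingleton_apply, one_smul]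
  rw [h8, Submodule.Quotient.mk_eq_zero] at h7
  exact hna h7

include hdim hω in
/-- An ideal isomorphic to `ω_A` contains every element `a` such that every non-unit has a power multiplying `a` into
it. -/
theorem mem_of_forall_pow {J : Ideal A} (e : ωA ≃ₗ[A] J) (a : A)
    (ha : ∀ x ∈ IsLocalRing.maximalIdeal A, ∃ n : ℕ, x ^ n * a ∈ J) : a ∈ J := by
  have h1 : IsLocalRing.maximalIdeal A ≤ (Submodule.colon J {a}).radical := by
    intro x hx
    obtain ⟨n, hn⟩ := ha x hx
    exact ⟨n, by rw [Submodule.mem_colon_singleton]; exact hn⟩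
  obtain ⟨N, hN⟩ := Ideal.exists_pow_le_of_le_radical_of_fg h1 (IsNoetherian.noetherian _)
  have h2 : ∀ n, (∀ x ∈ IsLocalRing.maximalIdeal A ^ n, x * a ∈ J) → a ∈ J := by
    intro n
    induction n with
    | zero =>
      intro h
      have := h 1 (by rw [pow_zero, Ideal.one_eq_top]; trivial)
      rwa [one_mul] at this
    | succ n ih =>
      intro h
      refine ih fun x hx => mem_of_forall hdim hω e _ fun y hy => ?_
      rw [← mul_assoc]
      refine h _ ?_
      rw [pow_succ']
      exact Ideal.mul_mem_mul hy hx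
  refine h2 N fun x hx => ?_
  have := hN hx
  rwa [Submodule.mem_colon_singleton] at this

include hdim hω in
/-- The dualizing module is isomorphic to a nonzero ideal. -/
theorem exists_ideal_equiv : ∃ J : Ideal A, J ≠ ⊥ ∧ Nonempty (ωA ≃ₗ[A] J) := by
  have := K376.TypeDual.finite_of_isDualizing A hω
  exact exists_ideal (OmegaA.torsionFree hdim hω)
    (K376.TypeDual.nontrivial_of_faithful A (K376.TypeDual.faithful_of_isDualizing A hω))
    (K376.TypeDual.endo_of_isDualizing A hω)

end dual

end K374.OmIdeal
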