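import Groth.Agent.Resolve.K374.Tors
import Groth.Agent.Resolve.K374.HZero
import Groth.Agent.CurvesC.PowSections

/-!
# Global sections of `J O_X` for an ideal `J` of depth two
-/

set_option autoImplicit false
universe u
open CategoryTheory CategoryTheory.Limits AlgebraicGeometry

namespace K374.SecJ

open Groth.Agent Groth.Agent.CurvesC Groth.Agent.CurvesC.ExtIdeal Groth.Agent.CurvesC.ModDim K374.ModBasic

variable {A : Type u} [CommRing A] [IsDomain A] [IsLocalRing A] [IsNoetherianRing A] [IsIntegrallyClosed A]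
  (hdim : ringKrullDim A = 2) {X : Scheme.{u}} [X.Over (Spec (CommRingCat.of A))]
  [IsProper (X ↘ Spec (CommRingCat.of A))] [IsIntegral X]
  (hbir : ∃ U : (Spec (CommRingCat.of A)).Opens, (U : Set (Spec (CommRingCat.of A))).Nonempty ∧
    IsIso ((X ↘ Spec (CommRingCat.of A)) ∣_ U))

omit [IsDomain A] [IsLocalRing A] [IsNoetherianRing A] [IsIntegrallyClosed A]
  [IsProper (X ↘ Spec (CommRingCat.of A))] [IsIntegral X] in
theorem toSec_top (a : A) : toSec (X ↘ Spec (CommRingCat.of A)) ⊤ a =
    Coh.toGlobal (X ↘ Spec (CommRingCat.of A)) a := by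
  change (X.presheaf.map (homOfLE (le_top : (⊤ : X.Opens) ≤ ⊤)).op).hom _ = _
  rw [show (homOfLE (le_top : (⊤ : X.Opens) ≤ ⊤)).op = 𝟙 _ from rfl, X.presheaf.map_id]
  rfl

include hdim hbir in
theorem bijective_toSec_top : Function.Bijective (toSec (X ↘ Spec (CommRingCat.of A)) ⊤) := by
  have hb : Function.Bijective (Coh.toGlobal (X ↘ Spec (CommRingCat.of A))) := bijective_toGlobal hdim _ hbir
  have h : (toSec (X ↘ Spec (CommRingCat.of A)) ⊤ : A → Γ(X, ⊤)) = Coh.toGlobal (X ↘ Spec (CommRingCat.of A)) :=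
    funext toSec_top
  rw [h]
  exact hb

include hdim hbir in
/-- If `a` is in `J O_X` over `X_x`, then some power of `x` multiplies `a` into `J`. -/
theorem exists_pow_mul_mem (J : Ideal A) (x a : A)
    (ha : toSec (X ↘ Spec (CommRingCat.of A)) (X.basicOpen (toSec (X ↘ Spec (CommRingCat.of A)) ⊤ x)) a ∈
      J.map (toSec (X ↘ Spec (CommRingCat.of A)) (X.basicOpen (toSec (X ↘ Spec (CommRingCat.of A)) ⊤ x)))) :
    ∃ n : ℕ, x ^ n * a ∈ J := by
  have := Tors.isSeparated A X
  have : CompactSpace X := QuasiCompact.compactSpace_of_compactSpace (X ↘ Spec (CommRingCat.of A))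
  let e : A ≃+* Γ(X, ⊤) := RingEquiv.ofBijective _ (bijective_toSec_top hdim hbir)
  let s := toSec (X ↘ Spec (CommRingCat.of A)) ⊤ x
  have hloc : IsLocalization.Away s Γ(X, X.basicOpen s) :=
    isLocalization_basicOpen_of_qcqs isCompact_univ isQuasiSeparated_univ s
  have hM : (Submonoid.powers s).map e.symm = Submonoid.powers x := by
    rw [Submonoid.map_powers]
    congr 1
    exact e.symm_apply_apply x
  have hloc1 := IsLocalization.isLocalization_of_base_ringEquiv (Submonoid.powers s) Γ(X, X.basicOpen s) e.symm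
  have hal : ((algebraMap Γ(X, ⊤) Γ(X, X.basicOpen s)).comp (e.symm.symm : A →+* Γ(X, ⊤))) =
      toSec (X ↘ Spec (CommRingCat.of A)) (X.basicOpen s) := by
    ext a
    exact toSec_res (X ↘ Spec (CommRingCat.of A)) (X.basicOpen_le s) a
  let : Algebra A Γ(X, X.basicOpen s) := (toSec (X ↘ Spec (CommRingCat.of A)) (X.basicOpen s)).toAlgebra
  have hloc' : IsLocalization.Away x Γ(X, X.basicOpen s) := by
    change IsLocalization (Submonoid.powers x) _
    rw [← hM]
    convert hloc1 using 1
    apply Algebra.algebra_ext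
    intro r
    exact congrArg (fun ψ : A →+* Γ(X, X.basicOpen s) => ψ r) hal.symm
  rw [show toSec (X ↘ Spec (CommRingCat.of A)) (X.basicOpen s) = algebraMap A Γ(X, X.basicOpen s) from rfl,
    IsLocalization.algebraMap_mem_map_algebraMap_iff (Submonoid.powers x)] at ha
  obtain ⟨_, ⟨n, rfl⟩, hn⟩ := ha
  exact ⟨n, hn⟩

include hdim hbir in
theorem nonempty_HH_extMod (J : Ideal A)
    (hJ : ∀ a : A, (∀ x ∈ IsLocalRing.maximalIdeal A, ∃ n : ℕ, x ^ n * a ∈ J) → a ∈ J) :
    Nonempty (Coh.HH X (extMod (X ↘ Spec (CommRingCat.of A)) J) 0 ≃ₗ[A] J) := by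
  let p := X ↘ Spec (CommRingCat.of A)
  let e : A ≃+* Γ(X, ⊤) := RingEquiv.ofBijective _ (bijective_toSec_top hdim hbir)
  have he : ∀ a, e a = toSec p ⊤ a := fun a => rfl
  let hz : Coh.HH X (extMod p J) 0 ≃+ Γ(extMod p J, ⊤) := VarietyA.H0Equiv.hZeroEquiv (extMod p J)
  have hzs : ∀ (r : A) (x : Coh.HH X (extMod p J) 0), val p J ⊤ (hz (r • x)) = e r * val p J ⊤ (hz x) := by
    intro r x
    have h1 := VarietyA.H0Equiv.hZeroEquiv_smul (extMod p J) (Coh.toGlobal p r) x
    have h2 : hz (r • x) = (show Γ(X, ⊤) from Coh.toGlobal p r) • (hz x : Γ(extMod p J, ⊤)) := h1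
    rw [h2, he, toSec_top]
    exact Scheme.Modules.Hom.app_smul (ClSub.idealModι (ext p J)) _ _
  let gg : Coh.HH X (extMod p J) 0 →+ Γ(X, ⊤) := (val p J ⊤).comp hz.toAddMonoidHom
  let g : Coh.HH X (extMod p J) 0 →ₗ[A] A :=
    { toFun := fun x => e.symm (gg x)
      map_add' := fun x y => by rw [map_add, map_add]
      map_smul' := fun r x => by
        have h1 : gg (r • x) = e r * gg x := hzs r x
        rw [h1, RingHom.id_apply, smul_eq_mul, map_mul, RingEquiv.symm_apply_apply] }
  have hg : ∀ x, toSec p ⊤ (g x) = val p J ⊤ (hz x) := fun x => e.apply_symm_apply _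
  have hinj : Function.Injective g := by
    intro x y hxy
    apply hz.injective
    apply val_injective
    rw [← hg, ← hg, hxy]
  have hrange : LinearMap.range g = J := by
    apply le_antisymm
    · rintro _ ⟨x, rfl⟩
      refine hJ _ fun t ht => exists_pow_mul_mem hdim hbir J t _ ?_
      have hU : IsAffineOpen (X.basicOpen (toSec p ⊤ t)) := by
        rw [toSec_top]
        exact Tors.isAffineOpen_basicOpen hdim hbir t ht
      have h1 := val_mem p J ⟨_, hU⟩ ((extMod p J).presheaf.map (homOfLE le_top).op (hz x))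
      rw [val_res, ← hg, toSec_res] at h1
      exact h1
    · intro a ha
      obtain ⟨y, hy⟩ := PowSections.exists_val_top p J (toSec p ⊤ a) (fun x => by
        obtain ⟨_, ⟨V, hV, rfl⟩, hxV, -⟩ := X.isBasis_affineOpens.exists_subset_of_mem_open (Set.mem_univ x) isOpen_univ
        refine ⟨⟨V, hV⟩, hxV, ?_⟩
        rw [toSec_res]
        exact Ideal.mem_map_of_mem _ ha)
      refine ⟨hz.symm y, ?_⟩
      apply (bijective_toSec_top hdim hbir).1
      refine (hg _).trans ?_
      rw [AddEquiv.apply_symm_apply, hy]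
  exact ⟨(LinearEquiv.ofInjective g hinj).trans (LinearEquiv.ofEq _ _ hrange)⟩

end K374.SecJ
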