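import Groth.Agent.Resolve.K374.OmInv
import Groth.Agent.Resolve.K374.SecJ
import Groth.Agent.Resolve.K374.NormBl
import Groth.Agent.Resolve.K374.OmIdeal
import Groth.Agent.Resolve.K374.CMReg
import Groth.Agent.Resolve.K374.ExtTwist
import Groth.Agent.Ega1.QCohLoc
import Groth.Agent.Divis.EffCartier
import Groth.Agent.CohqB.QC6
import Groth.Agent.PerfA.QCohSerre

/-!
# The dualizing module of a modification is invertible on the normalized blow-up of `ω_A`
-/

set_option autoImplicit false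
universe u
open CategoryTheory CategoryTheory.Limits AlgebraicGeometry TopologicalSpace Opposite

attribute [local instance] HasDerivedCategory.standard

namespace K374.OmFinal

open Groth.Agent Groth.Agent.CurvesC Groth.Agent.CurvesC.ExtIdeal Groth.Agent.CurvesC.ModDim
  Groth.Agent.CurvesC.KoszulOne Groth.Agent.CohqB.HSeqMod K374.CMReg K374.TwistVan

section Mono

variable {A : Type u} [CommRing A] [IsDomain A] [IsLocalRing A] [IsNoetherianRing A] [IsIntegrallyClosed A]
  (hdim : ringKrullDim A = 2) {X : Scheme.{u}} [X.Over (Spec (CommRingCat.of A))]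
  [IsProper (X ↘ Spec (CommRingCat.of A))] [IsIntegral X]
  (hbir : ∃ U : (Spec (CommRingCat.of A)).Opens, (U : Set (Spec (CommRingCat.of A))).Nonempty ∧
    IsIso ((X ↘ Spec (CommRingCat.of A)) ∣_ U))

open Ega1.QCohLoc in
include hdim hbir in
/-- A quasi-coherent submodule of `O_X` without global sections is zero. -/
theorem isZero_of_mono_unit {K : X.Modules} (hK : Coh.IsQCoh K) (j : K ⟶ Coh.structureModule X) [Mono j]
    (h : Subsingleton Γ(K, ⊤)) : IsZero K := by
  have hsep := Tors.isSeparated A X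
  have : CompactSpace X := QuasiCompact.compactSpace_of_compactSpace (X ↘ Spec (CommRingCat.of A))
  have hloc := isLocOnAffines_of_isQCoh K hK
  obtain ⟨t, ht, ht0⟩ := Submodule.exists_mem_ne_zero_of_ne_bot (OmIdeal.maximalIdeal_ne_bot (A := A) hdim)
  let p := X ↘ Spec (CommRingCat.of A)
  let s := toSec p ⊤ t
  have hU : IsAffineOpen (X.basicOpen s) := by
    change IsAffineOpen (X.basicOpen (toSec p ⊤ t))
    rw [SecJ.toSec_top]
    exact Tors.isAffineOpen_basicOpen hdim hbir t ht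
  have hs0 : s ≠ 0 := by
    intro h0
    apply ht0
    apply (SecJ.bijective_toSec_top hdim hbir).1
    rw [map_zero]
    exact h0
  -- no sections over `X_t`
  have h1 : ∀ k : Γ(K, X.basicOpen s), k = 0 := by
    intro k
    obtain ⟨n, k', hk'⟩ := surj_of_isCompact hloc isCompact_univ isQuasiSeparated_univ s rfl le_top k
    have hu : IsUnit (resO (le_top : X.basicOpen s ≤ ⊤) s) := RingedSpace.isUnit_res_basicOpen _ s
    rw [Subsingleton.elim k' 0, map_zero] at hk'
    exact ((hu.pow n).smul_eq_zero).1 hk'.symm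
  have h2 : ∀ (g : Γ(X, X.basicOpen s)) (k : Γ(K, X.basicOpen g)), k = 0 := by
    intro g k
    obtain ⟨n, k', hk'⟩ := surj_of_isCompact hloc hU.isCompact hU.isQuasiSeparated g rfl (X.basicOpen_le g) k
    have hu : IsUnit (resO (X.basicOpen_le g) g) := RingedSpace.isUnit_res_basicOpen _ g
    rw [h1 k', map_zero] at hk'
    exact ((hu.pow n).smul_eq_zero).1 hk'.symm
  refine PerfA.GenPull.isZero_of_affine_sections K hK fun x => ?_
  obtain ⟨W, hW, hxW, -⟩ := exists_isAffineOpen_mem_and_subset (x := x) (U := ⊤) trivial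
  refine ⟨W, hW, hxW, fun k => ?_⟩
  have hne0 : (X.basicOpen s : Set X).Nonempty := by
    rw [Set.nonempty_iff_ne_empty]
    intro h0
    apply hs0
    rw [← basicOpen_eq_bot_iff]
    exact TopologicalSpace.Opens.ext h0
  obtain ⟨y, hyW, hyU⟩ := nonempty_preirreducible_inter W.2 (X.basicOpen s).2 ⟨x, hxW⟩ hne0
  obtain ⟨g, hgW, hyg⟩ := hU.exists_basicOpen_le ⟨y, hyW⟩ hyU
  have hD : Nonempty (X.basicOpen g) := ⟨⟨y, hyg⟩⟩
  have hinj : Function.Injective (X.presheaf.map (homOfLE hgW).op).hom := map_injective_of_isIntegral X (homOfLE hgW)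
  apply app_injective_of_mono j W
  rw [map_zero]
  apply hinj
  have h3 := congrArg (fun ψ => ψ k) (j.mapPresheaf.naturality (homOfLE hgW).op)
  refine Eq.trans ?_ (map_zero _).symm
  refine Eq.trans h3.symm ?_
  change j.app _ (K.presheaf.map (homOfLE hgW).op k) = 0
  rw [h2 g (K.presheaf.map (homOfLE hgW).op k), map_zero]

end Mono

section Sec

variable {X : Scheme.{u}} {M N : X.Modules} (φ : M ⟶ N)

open Dcoh.Restrict in
/-- From Hom-sets to sections. -/
theorem app_top_bijective (hφ : Function.Bijective (fun v : Coh.structureModule X ⟶ M => v ≫ φ)) :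
    Function.Bijective (φ.app ⊤) := by
  constructor
  · intro m m' hm
    have h1 : unitHom m ≫ φ = unitHom m' ≫ φ := by
      apply unit_hom_ext
      change φ.app ⊤ ((unitHom m).app ⊤ (one ⊤)) = φ.app ⊤ ((unitHom m').app ⊤ (one ⊤))
      rw [unitHom_app_one, unitHom_app_one, hm]
    have h2 := hφ.1 h1
    rw [← unitHom_app_one m, h2, unitHom_app_one]
  · intro s
    obtain ⟨v, hv⟩ := hφ.2 (unitHom s)
    refine ⟨v.app ⊤ (one ⊤), ?_⟩
    have h1 := congrArg (fun ψ : Coh.structureModule X ⟶ N => ψ.app ⊤ (one ⊤)) hv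
    exact h1.trans (unitHom_app_one s)

open VarietyA.H0Equiv in
theorem hZeroEquiv_hmap (x : Coh.HH X M 0) :
    hZeroEquiv N (hmap φ 0 x) = (φ.val.app (op ⊤)).hom (hZeroEquiv M x) :=
  (Sheaf.H.equiv₀_naturality (isTerminalTop X) ((CohqB.ToSheafExact.toAbF X).map φ) x).symm

theorem hmap_surjective (hφ : Function.Surjective (φ.app ⊤)) :
    Function.Surjective (hmap φ 0) := by
  intro y
  obtain ⟨t, ht⟩ := hφ (VarietyA.H0Equiv.hZeroEquiv N y)
  refine ⟨(VarietyA.H0Equiv.hZeroEquiv M).symm t, ?_⟩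
  apply (VarietyA.H0Equiv.hZeroEquiv N).injective
  rw [hZeroEquiv_hmap, AddEquiv.apply_symm_apply]
  exact ht

end Sec

theorem isInvertible_iso {X : Scheme.{u}} {L M : X.Modules} (e : L ≅ M) (hL : PicF.IsInvertible L) :
    PicF.IsInvertible M := by
  obtain ⟨L', -, ⟨e'⟩⟩ := Grpsch.PicGrp.exists_inverse hL
  exact Groth.Agent.S2122.result M L' (mapR L' e.symm ≪≫ e')

/-- The powers of an invertible ideal. -/
theorem nonempty_tensorPow {X : Scheme.{u}} {D : X.IdealSheafData} (hD : BlowUp.IsEffCartierIdeal D) (n : ℕ) :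
    BlowUp.IsEffCartierIdeal (D ^ (n + 1)) ∧
      Nonempty (ClSub.idealMod (D ^ (n + 1)) ≅ CohB1.tensorPow (ClSub.idealMod D) (n + 1)) := by
  induction n with
  | zero =>
    rw [zero_add, pow_one]
    exact ⟨hD, ⟨(Ega2.Tens.lunit (ClSub.idealMod D)).symm⟩⟩
  | succ n ih =>
    obtain ⟨hE, ⟨e⟩⟩ := ih
    obtain ⟨e'⟩ := Dix.IdealModCartier.idealMod_mul hE hD
    rw [← pow_succ] at e'
    have hE2 := Divis.EffCartier.isEff_mul hE hD
    rw [← pow_succ] at hE2
    exact ⟨hE2, ⟨e'.symm ≪≫ mapR (ClSub.idealMod D) e⟩⟩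

section Coker

variable {A : Type u} [CommRing A] [IsDomain A] [IsLocalRing A] [IsNoetherianRing A]
  (hdim : ringKrullDim A = 2) {X : Scheme.{u}} (f : X ⟶ Spec (CommRingCat.of A)) [IsProper f] [IsIntegral X]
  (hbir : ∃ U : (Spec (CommRingCat.of A)).Opens, (U : Set (Spec (CommRingCat.of A))).Nonempty ∧ IsIso (f ∣_ U))

include hdim hbir in
theorem subsingleton_HH_zero_coker {L W : X.Modules} (hL : Coh.IsQCoh L) (hW : Coh.IsQCoh W) (φ : L ⟶ W)
    (hφ : Function.Surjective (φ.app ⊤)) (hL1 : Subsingleton (Coh.HH X L 1)) :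
    Subsingleton (Coh.HH X (cokernel φ) 0) := by
  let π := cokernel.π φ
  have hIq : Coh.IsQCoh (Abelian.image φ) := CohqB.QC6.isQCoh_image φ hL hW
  have hI1 : Subsingleton (Coh.HH X (kernel π) 1) :=
    K372.QCohVan.subsingleton_of_epi hdim f hbir hL hIq (Abelian.factorThruImage φ) hL1
  let S : ShortComplex X.Modules := ShortComplex.mk (kernel.ι π) π (kernel.condition π)
  have hS : S.ShortExact := { exact := ShortComplex.exact_kernel π }
  have key : ∀ z : Coh.HH X (cokernel φ) 0, z = 0 := by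
    intro z
    obtain ⟨w, hw⟩ := exact₃ hS 0 z (@Subsingleton.elim _ hI1 _ _)
    obtain ⟨v, rfl⟩ := hmap_surjective φ hφ w
    have h1 : hmap π 0 (hmap φ 0 v) = 0 := by
      rw [← hmap_comp_apply, cokernel.condition, hmap_zero_apply]
    exact hw.symm.trans h1
  exact ⟨fun x y => (key x).trans (key y).symm⟩

include hdim hbir in
theorem subsingleton_HH_one_tensor {W Q L' : X.Modules} (hW : Coh.IsQCoh W) (hQ : Coh.IsQCoh Q)
    (hL' : PicF.IsInvertible L') (π : W ⟶ Q) [Epi π] (h : Subsingleton (Coh.HH X (CohB1.tensorMod W L') 1)) :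
    Subsingleton (Coh.HH X (CohB1.tensorMod Q L') 1) := by
  obtain ⟨L, -, ⟨e⟩⟩ := Grpsch.PicGrp.exists_inverse hL'
  have h1 := ExtTwist.isEquivalence (Ega2.Tens.swap _ _ ≪≫ e)
  have h2 : Epi ((DCoh.tensorRightMod L').map π) := inferInstance
  have hq := PerfB.TensInv.isQCoh_of_isInvertible hL'
  exact @K372.QCohVan.subsingleton_of_epi A _ _ _ _ hdim X _ f _ hbir _ _
    (Ega1.TensorRestrict.isQCoh_tensorMod W L' hW hq) (Ega1.TensorRestrict.isQCoh_tensorMod Q L' hQ hq)
    ((DCoh.tensorRightMod L').map π) h2 h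

include hdim hbir in
/-- Castelnuovo-Mumford: `H^0(Q) = 0`, `H^1(Q ⊗ L⁻¹) = 0` and `L` ample, generated by global sections, imply
`Q = 0`. -/
theorem isZero_of_regular {J : Ideal A} (hE : BlowUp.IsEffCartierIdeal (ext f J))
    (hamp : CohB1.IsAmple (extMod f J)) {Q L' : X.Modules} (hQ : Coh.IsQCoh Q)
    (hL' : PicF.IsInvertible L') (e : CohB1.tensorMod (extMod f J) L' ≅ Coh.structureModule X)
    (h0 : Subsingleton (Coh.HH X Q 0)) (h1 : Subsingleton (Coh.HH X (CohB1.tensorMod Q L') 1)) : IsZero Q := by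
  have hX : IsNoetherian X := ModBasic.isNoetherian f
  obtain ⟨r, a, ha⟩ := Submodule.fg_iff_exists_fin_generating_family.mp (IsNoetherian.noetherian J)
  have ha : I a = J := ha
  have hloc := K372.PowSec.hloc_of_isEff f a (by rw [ha]; exact hE)
  have hG : Coh.IsQCoh (CohB1.tensorMod Q L') :=
    Ega1.TensorRestrict.isQCoh_tensorMod Q L' hQ (PerfB.TensInv.isQCoh_of_isInvertible hL')
  have e1 : CohB1.tensorMod (CohB1.tensorMod Q L') (extMod f J) ≅ Q :=
    Ega2.Tens.assoc Q L' (extMod f J) ≪≫ mapI Q (Ega2.Tens.swap L' (extMod f J) ≪≫ e) ≪≫ Ega2.Tens.runit Q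
  have h2 : Subsingleton (Coh.HH X (CohB1.tensorMod (CohB1.tensorMod Q L') (extMod f (I a))) 0) := by
    rw [ha]
    exact subsingleton_of_iso' e1.symm 0 h0
  have h3 := CMReg.subsingleton_HH_zero hdim f hbir a hloc _ hG h1 h2
  refine isZero_of_isZero_tensor hL' (isZero_of_ample hamp _ hG fun n => ?_)
  obtain ⟨-, ⟨e2⟩⟩ := nonempty_tensorPow hE n
  rw [K372.PowSec.pow_comap] at e2
  have h4 : Subsingleton (Coh.HH X (CohB1.tensorMod (CohB1.tensorMod Q L') (ClSub.idealMod (ext f (J ^ (n + 1))))) 0) := by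
    have h5 := h3 n
    unfold L at h5
    rw [ha] at h5
    exact h5
  exact subsingleton_of_iso' (mapI (CohB1.tensorMod Q L') e2) 0 h4

end Coker

section Main

variable {A : Type u} [CommRing A] [IsDomain A] [IsLocalRing A] [IsNoetherianRing A] [IsIntegrallyClosed A]
  (hdim : ringKrullDim A = 2) {X : Scheme.{u}} (f : X ⟶ Spec (CommRingCat.of A)) [IsProper f] [IsIntegral X]
  (hbir : ∃ U : (Spec (CommRingCat.of A)).Opens, (U : Set (Spec (CommRingCat.of A))).Nonempty ∧ IsIso (f ∣_ U))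
  (hXO : Subsingleton (Coh.HH X (Coh.structureModule X) 1))
  {ωA : Type u} [AddCommGroup ωA] [Module A ωA] (hω : Dual.IsDualizing A (Dual.inD A ωA))
  [PreservesFiniteLimits (tilde.functor (CommRingCat.of A))]
  [DCoh.HasRpush f] (h : DCoh.RpushPreservesQCoh f) [DCoh.HasShriek f h]
  (WA : DCoh.DQCoh (Spec (CommRingCat.of A)))
  (eW : WA.obj ≅ (DCoh.tildeD (CommRingCat.of A)).obj (Dual.inD A ωA))
  {J : Ideal A} (eJ : ωA ≃ₗ[A] J) (hE : BlowUp.IsEffCartierIdeal (ext f J)) (hamp : CohB1.IsAmple (extMod f J))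

include hdim hbir hXO hω eW eJ hE hamp in
/-- `ω_X` is invertible if `ω_A ≅ J` and `J O_X` is invertible and ample. -/
theorem isInvertible : PicF.IsInvertible (DCoh.HD ((DCoh.shriek f h).obj WA).obj 0) := by
  let : X.Over (Spec (CommRingCat.of A)) := ⟨f⟩
  have hX : IsNoetherian X := ModBasic.isNoetherian f
  have hLc : Coh.IsCoh (extMod f J) := PowSections.isCoh_extMod f J
  have hLinv : PicF.IsInvertible (extMod f J) := Dix.IdealModCartier.isInvertible_idealMod hE
  have hL1 : Subsingleton (Coh.HH X (extMod f J) 1) :=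
    subsingleton_of_iso' (Ega2.Tens.lunit (extMod f J)) 1
      (subsingleton_tensor hdim f hbir J _ (CurvesC.UnitCoh.isQCoh_unit X) hXO)
  have hM0 : Nonempty (Coh.HH X (extMod f J) 0 ≃ₗ[A] ωA) := by
    have : IsProper (X ↘ Spec (CommRingCat.of A)) := inferInstanceAs (IsProper f)
    obtain ⟨l⟩ := SecJ.nonempty_HH_extMod (X := X) hdim hbir J (OmIdeal.mem_of_forall_pow hdim hω eJ)
    exact ⟨l.trans eJ.symm⟩
  obtain ⟨φ, hφ, hExt⟩ := OmInv.exists_map hdim f hbir hω h WA eW (extMod f J) hLc hL1 hM0 hXO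
  have hW : Coh.IsQCoh (DCoh.HD ((DCoh.shriek f h).obj WA).obj 0) := ((DCoh.shriek f h).obj WA).property 0
  generalize DCoh.HD ((DCoh.shriek f h).obj WA).obj 0 = W at φ hφ hExt hW ⊢
  have hb := app_top_bijective φ hφ
  obtain ⟨L', hL', ⟨e⟩⟩ := Grpsch.PicGrp.exists_inverse hLinv
  have hQ : Coh.IsQCoh (cokernel φ) := PerfA.QCohSerre.isQCoh_cokernel φ hLc.1 hW
  have h0 := subsingleton_HH_zero_coker hdim f hbir hLc.1 hW φ hb.2 hL1
  have h1 := subsingleton_HH_one_tensor hdim f hbir hW hQ hL' (cokernel.π φ) (ExtTwist.subsingleton_HH e W hExt)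
  have hz : IsZero (cokernel φ) := isZero_of_regular hdim f hbir hE hamp hQ hL' e h0 h1
  have hepi : Epi φ := Preadditive.epi_of_isZero_cokernel φ hz
  have hK : Coh.IsQCoh (kernel φ) := Groth.Agent.CohqB.QC4.isQuasicoherent_kernel φ hLc.1 hW
  have hKz : IsZero (kernel φ) := by
    have : IsProper (X ↘ Spec (CommRingCat.of A)) := inferInstanceAs (IsProper f)
    have hm : Mono (ClSub.idealModι (ext f J)) := inferInstanceAs (Mono (kernel.ι _))
    refine isZero_of_mono_unit (X := X) hdim hbir hK (kernel.ι φ ≫ ClSub.idealModι (ext f J)) ?_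
    refine ⟨fun x y => ?_⟩
    apply app_injective_of_mono (kernel.ι φ) ⊤
    apply hb.1
    have h2 : ∀ z : Γ(kernel φ, ⊤), φ.app ⊤ ((kernel.ι φ).app ⊤ z) = 0 := by
      intro z
      have h3 := congrArg (fun ψ : kernel φ ⟶ W => ψ.app ⊤ z) (kernel.condition φ)
      exact h3
    rw [h2, h2]
  have hmono : Mono φ := Preadditive.mono_of_isZero_kernel φ hKz
  have hiso : IsIso φ := isIso_of_mono_of_epi φ
  exact isInvertible_iso (asIso φ) hLinv

end Main

end K374.OmFinal
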