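import Groth.Agent.LoccohB.PnDual287d
import Groth.Prelude.Def_DDual2

/-!
# The trace map `Rf_* f^! K ⟶ K` is an isomorphism when `O_S ≅ Rf_* O_X`

`S = Spec A` affine, `f : X ⟶ S`, `f^!` the right adjoint of `Rf_*` on `D_QCoh`.
-/

set_option autoImplicit false

universe u

open CategoryTheory CategoryTheory.Limits AlgebraicGeometry Pretriangulated

attribute [local instance] HasDerivedCategory.standard

namespace K374.TraceIso

open Groth.Agent Groth.Agent.LoccohB Groth.Agent.LoccohB.PnDual287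

section Adj

variable {X S : Scheme.{u}} {f : X ⟶ S} [DCoh.HasRpush f]

/-- `Hom(P, f^! W) ≅ Hom(Rf_* P, W)`, explicitly. -/
theorem bijective_trace (h : DCoh.RpushPreservesQCoh f) [DCoh.HasShriek f h]
    (P : DCoh.DQCoh X) (W : DCoh.DQCoh S) :
    Function.Bijective (fun u : P.obj ⟶ ((DCoh.shriek f h).obj W).obj =>
      (DCoh.Rpush f).map u ≫ (ObjectProperty.ι DCoh.IsQCohD).map ((DCoh.trace f h).app W)) := by
  have h1 : Function.Bijective (fun u : P ⟶ (DCoh.shriek f h).obj W =>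
      (ObjectProperty.ι DCoh.IsQCohD).map u) :=
    ⟨(ObjectProperty.ι DCoh.IsQCohD).map_injective, (ObjectProperty.ι DCoh.IsQCohD).map_surjective⟩
  have h2 : Function.Bijective (fun u : (DCoh.RpushQ f h).obj P ⟶ W =>
      (ObjectProperty.ι DCoh.IsQCohD).map u) :=
    ⟨(ObjectProperty.ι DCoh.IsQCohD).map_injective, (ObjectProperty.ι DCoh.IsQCohD).map_surjective⟩
  have h3 := (((DCoh.shriekAdj f h).homEquiv P W).symm).bijective
  have h4 : (fun u : P.obj ⟶ ((DCoh.shriek f h).obj W).obj =>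
      (DCoh.Rpush f).map u ≫ (ObjectProperty.ι DCoh.IsQCohD).map ((DCoh.trace f h).app W)) ∘
        (fun u : P ⟶ (DCoh.shriek f h).obj W => (ObjectProperty.ι DCoh.IsQCohD).map u) =
      (fun u : (DCoh.RpushQ f h).obj P ⟶ W => (ObjectProperty.ι DCoh.IsQCohD).map u) ∘
        ((DCoh.shriekAdj f h).homEquiv P W).symm := by
    funext u
    rw [Function.comp_apply, Function.comp_apply, Adjunction.homEquiv_counit]
    rfl
  have h5 := h2.comp h3
  rw [← h4] at h5
  exact (Function.Bijective.of_comp_iff _ h1).1 h5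

end Adj

section Main

variable {A : Type u} [CommRing A] {X : Scheme.{u}} [X.Over (Spec (CommRingCat.of A))]
  {f : X ⟶ Spec (CommRingCat.of A)} [DCoh.HasRpush f]
  {L : DCoh.D (Spec (CommRingCat.of A)) ⥤ DCoh.D X} (ad : L ⊣ DCoh.Rpush f)
  (e : L.obj (OD (Spec (CommRingCat.of A))) ≅ OD X)

include ad e

/-- The trace map is an isomorphism if `O_S ≅ Rf_* O_X`. -/
theorem isIso_trace (g : OD (Spec (CommRingCat.of A)) ⟶ (DCoh.Rpush f).obj (OD X)) [IsIso g]
    (h : DCoh.RpushPreservesQCoh f) [DCoh.HasShriek f h] (W : DCoh.DQCoh (Spec (CommRingCat.of A))) :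
    IsIso ((ObjectProperty.ι DCoh.IsQCohD).map ((DCoh.trace f h).app W)) := by
  let := Dcoh.DerSch.rpushCommShift f
  refine isIso_of_bijective (CommRingCat.of A) (h _ ((DCoh.shriek f h).obj W).property) W.property _
    fun m => ?_
  let P : DCoh.DQCoh X := ⟨(OD X)⟦m⟧, DCoh.IsQCohD.le_shift m _ (isQCohD_OD X)⟩
  have h1 := bijective_trace h P W
  have h2 := bijective_map ad e g m ((DCoh.shriek f h).obj W).obj
  have h3 : Function.Bijective (fun v : (DCoh.Rpush f).obj P.obj ⟶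
      (DCoh.Rpush f).obj ((DCoh.shriek f h).obj W).obj =>
        v ≫ (ObjectProperty.ι DCoh.IsQCohD).map ((DCoh.trace f h).app W)) :=
    (Function.Bijective.of_comp_iff _ h2).1 h1
  let c : (OD (Spec (CommRingCat.of A)))⟦m⟧ ≅ (DCoh.Rpush f).obj P.obj :=
    (shiftFunctor _ m).mapIso (asIso g) ≪≫ (((DCoh.Rpush f).commShiftIso m).app (OD X)).symm
  constructor
  · intro v w hvw
    have h4 : (c.inv ≫ v) ≫ (ObjectProperty.ι DCoh.IsQCohD).map ((DCoh.trace f h).app W) =
        (c.inv ≫ w) ≫ (ObjectProperty.ι DCoh.IsQCohD).map ((DCoh.trace f h).app W) := by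
      rw [Category.assoc, Category.assoc]
      exact congrArg (fun t => c.inv ≫ t) hvw
    exact (cancel_epi c.inv).1 (h3.1 h4)
  · intro w
    obtain ⟨v, hv⟩ := h3.2 (c.inv ≫ w)
    refine ⟨c.hom ≫ v, ?_⟩
    change (c.hom ≫ v) ≫ _ = w
    change v ≫ _ = c.inv ≫ w at hv
    rw [Category.assoc, hv, Iso.hom_inv_id_assoc]

end Main

section Coh

variable {A : Type u} [CommRing A] {X : Scheme.{u}} [X.Over (Spec (CommRingCat.of A))]
  {f : X ⟶ Spec (CommRingCat.of A)} [DCoh.HasRpush f]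

/-- `O_S ≅ Rf_* O_X` if `RΓ(X, O_X) ≅ A`. -/
theorem exists_isIso_structure (hf : X ↘ Spec (CommRingCat.of A) = f) (h : DCoh.RpushPreservesQCoh f)
    (l : Coh.HH X (Coh.structureModule X) 0 ≃ₗ[A] A)
    (hv : ∀ q : ℕ, q ≠ 0 → Subsingleton (Coh.HH X (Coh.structureModule X) q)) :
    ∃ g : OD (Spec (CommRingCat.of A)) ⟶ (DCoh.Rpush f).obj (OD X), IsIso g := by
  obtain ⟨L, ad, e, he⟩ := exists_adj (A := A) (X := X) (f := f) hf
  obtain ⟨ψ, hψ⟩ := exists_psi (Coh.structureModule X) 0 l (OD X)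
    ((shiftFunctorZero (DCoh.D X) ℤ).symm.app _)
  refine exists_isIso_Rpush ad e he (OD X) (h _ (isQCohD_OD X)) (fun k hk => ?_) ψ hψ
  refine subsingleton_hom X _ k fun q hq => hv q ?_
  rintro rfl
  exact hk hq.symm

/-- The trace map is an isomorphism if `RΓ(X, O_X) ≅ A`. -/
theorem isIso_trace_of_coh (hf : X ↘ Spec (CommRingCat.of A) = f)
    (l : Coh.HH X (Coh.structureModule X) 0 ≃ₗ[A] A)
    (hv : ∀ q : ℕ, q ≠ 0 → Subsingleton (Coh.HH X (Coh.structureModule X) q))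
    (h : DCoh.RpushPreservesQCoh f) [DCoh.HasShriek f h] (W : DCoh.DQCoh (Spec (CommRingCat.of A))) :
    IsIso ((ObjectProperty.ι DCoh.IsQCohD).map ((DCoh.trace f h).app W)) := by
  obtain ⟨g, hg⟩ := exists_isIso_structure hf h l hv
  obtain ⟨L, ad, e, he⟩ := exists_adj (A := A) (X := X) (f := f) hf
  exact isIso_trace ad e g h W

end Coh

end K374.TraceIso
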