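import Groth.Agent.Resolve.K374.GROmega
import Groth.Agent.Resolve.K374.TraceIso

/-!
# Sheaves with the cohomology of `ω_A` and their maps to `ω_X`
-/

set_option autoImplicit false
universe u
open CategoryTheory CategoryTheory.Limits AlgebraicGeometry TopologicalSpace Opposite Pretriangulated

attribute [local instance] HasDerivedCategory.standard

namespace K374.OmInv

open Groth.Agent Groth.Agent.LoccohB Groth.Agent.LoccohB.PnDual287 DerivedCategory Groth.Agent.CurvesC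
  K374.ShriekGE

section General

variable {C : Type*} [Category C] [Abelian C] [HasDerivedCategory C]

/-- `H^0(W) → W` for `W ∈ D^{≥ 0}`. -/
theorem exists_trunc_map (W : DerivedCategory C) [W.IsGE 0] :
    ∃ i : (singleFunctor C 0).obj ((homologyFunctor C 0).obj W) ⟶ W,
      (∀ (K : DerivedCategory C) [K.IsLE 0], Function.Bijective (fun u : K ⟶ _ => u ≫ i)) ∧
      ∀ (K : DerivedCategory C) [K.IsLE 0], Subsingleton (K ⟶ W⟦(1 : ℤ)⟧) →
        Subsingleton (K ⟶ ((singleFunctor C 0).obj ((homologyFunctor C 0).obj W))⟦(1 : ℤ)⟧) := by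
  obtain ⟨P, B, a, b, c, hT, hP, hB, hi, -⟩ := DQCohBasic.exists_trunc W 0
  have hP' : P.IsGE 0 := by
    rw [isGE_iff]
    intro i hi0
    have := hi i hi0.le
    exact (isZero_of_isGE _ 0 i hi0).of_iso (asIso ((homologyFunctor C i).map a))
  have hB' : B.IsGE 1 := hB
  have h0 := hi 0 le_rfl
  obtain ⟨eP⟩ := DCalc.nonempty_iso_of_both 0 P ((singleFunctor C 0).obj ((homologyFunctor C 0).obj W))
    (asIso ((homologyFunctor C 0).map a) ≪≫ ((singleFunctorCompHomologyFunctorIso C 0).app _).symm)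
  refine ⟨eP.inv ≫ a, fun K hK => ?_, fun K hK hs => ?_⟩
  · have h1 : Subsingleton (K ⟶ B) := GRDer.subsingleton_of_isLE_of_isGE 0 1 (by norm_num)
    have h2 : Subsingleton (K ⟶ B⟦(-1 : ℤ)⟧) := by
      have : (B⟦(-1 : ℤ)⟧).IsGE 2 := TStructure.t.isGE_shift B 1 (-1) 2 (by norm_num)
      exact GRDer.subsingleton_of_isLE_of_isGE 0 2 (by norm_num)
    have hinj : ∀ u : K ⟶ P, u ≫ a = 0 → u = 0 := by
      intro u hu
      obtain ⟨g, hg⟩ := Triangle.coyoneda_exact₂ _ (inv_rot_of_distTriang _ hT) u hu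
      rw [hg, h2.elim g 0]
      exact zero_comp
    constructor
    · intro u v huv
      change u ≫ eP.inv ≫ a = v ≫ eP.inv ≫ a at huv
      have h3 : (u - v) ≫ eP.inv = 0 := by
        apply hinj
        rw [Category.assoc, Preadditive.sub_comp, huv, sub_self]
      have h4 : u - v = 0 := (cancel_mono eP.inv).1 (by rw [h3, zero_comp])
      exact sub_eq_zero.1 h4
    · intro v
      obtain ⟨g, hg⟩ : ∃ g : K ⟶ P, v = g ≫ a := Triangle.coyoneda_exact₂ _ hT v (h1.elim _ _)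
      refine ⟨g ≫ eP.hom, ?_⟩
      change (g ≫ eP.hom) ≫ eP.inv ≫ a = v
      rw [Category.assoc, Iso.hom_inv_id_assoc, hg]
  · have h2 : Subsingleton (K ⟶ P⟦(1 : ℤ)⟧) :=
      GRDer.subsingleton_shift₁ hT K (GRDer.subsingleton_of_isLE_of_isGE 0 1 (by norm_num)) hs
    exact subsingleton_of_iso (Iso.refl _) ((shiftFunctor _ (1 : ℤ)).mapIso eP) h2

end General

variable {A : Type u} [CommRing A] [IsDomain A] [IsLocalRing A] [IsNoetherianRing A] [IsIntegrallyClosed A]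
  (hdim : ringKrullDim A = 2) {X : Scheme.{u}} (f : X ⟶ Spec (CommRingCat.of A)) [IsProper f] [IsIntegral X]
  (hbir : ∃ U : (Spec (CommRingCat.of A)).Opens, (U : Set (Spec (CommRingCat.of A))).Nonempty ∧ IsIso (f ∣_ U))
  {ωA : Type u} [AddCommGroup ωA] [Module A ωA] (hω : Dual.IsDualizing A (Dual.inD A ωA))
  [PreservesFiniteLimits (tilde.functor (CommRingCat.of A))]
  [DCoh.HasRpush f] (h : DCoh.RpushPreservesQCoh f) [DCoh.HasShriek f h]
  (WA : DCoh.DQCoh (Spec (CommRingCat.of A)))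
  (eW : WA.obj ≅ (DCoh.tildeD (CommRingCat.of A)).obj (Dual.inD A ωA))
  (M : X.Modules) (hM : Coh.IsCoh M) (hM1 : Subsingleton (Coh.HH X M 1))
  (hM0 : letI : X.Over (Spec (CommRingCat.of A)) := ⟨f⟩; Nonempty (Coh.HH X M 0 ≃ₗ[A] ωA))

include hdim hbir h hM hM1 hM0 in
omit [DCoh.HasShriek f h] in
/-- `Rf_* M ≅ ω_A~`. -/
theorem nonempty_push : Nonempty ((DCoh.tildeD (CommRingCat.of A)).obj (Dual.inD A ωA) ≅
    (DCoh.Rpush f).obj (DCoh.inD X M)) := by
  let : X.Over (Spec (CommRingCat.of A)) := ⟨f⟩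
  have : DCoh.HasRpush (X ↘ Spec (CommRingCat.of A)) := inferInstanceAs (DCoh.HasRpush f)
  have : IsProper (X ↘ Spec (CommRingCat.of A)) := inferInstanceAs (IsProper f)
  have hMq : DCoh.IsQCohD (DCoh.inD X M) := TopRepBound.isQCohD_single hM.1 _
  obtain ⟨K, ⟨e⟩⟩ := PerfA.TildeMain.exists_iso (CommRingCat.of A) ((DCoh.Rpush f).obj (DCoh.inD X M))
    (h _ hMq)
  have hGE : ((DCoh.Rpush f).obj (DCoh.inD X M)).IsGE 0 := PerfC.RpushTrunc.isGE_Rpush f _ 0
  have hLE : ((DCoh.Rpush f).obj (DCoh.inD X M)).IsLE 1 := hle hdim f hbir _ hM 0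
  have h1 : K.IsGE 0 := RGam.isGE_of_iso (A := A) e 0 hGE
  have h2 : K.IsLE 1 := RGam.isLE_of_iso (A := A) e 1 hLE
  obtain ⟨l⟩ := hM0
  obtain ⟨l0⟩ := RGam.nonempty_HD (A := A) (X := X) M hMq e 0
  obtain ⟨l1⟩ := RGam.nonempty_HD (A := A) (X := X) M hMq e 1
  have h3 : K.IsLE 0 := by
    rw [isLE_iff]
    intro i hi
    rcases eq_or_lt_of_le (show 1 ≤ i by omega) with rfl | hi'
    · have : Subsingleton (Dual.HD A K 1) := l1.toEquiv.subsingleton
      exact ModuleCat.isZero_of_subsingleton _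
    · exact isZero_of_isLE K 1 i hi'
  obtain ⟨eK⟩ := DCalc.nonempty_iso_of_both 0 (Dual.inD A ωA) K
    ((singleFunctorCompHomologyFunctorIso _ 0).app (ModuleCat.of A ωA) ≪≫ (l0 ≪≫ₗ l).symm.toModuleIso)
  exact ⟨(DCoh.tildeD (CommRingCat.of A)).mapIso eK ≪≫ e⟩

include hdim hbir hω h eW hM hM1 hM0 in
/-- `Hom(M, f^! ω_A[1]) = 0`. -/
theorem subsingleton_hom_shriek :
    Subsingleton (DCoh.inD X M ⟶ ((DCoh.shriek f h).obj WA).obj⟦(1 : ℤ)⟧) := by
  obtain ⟨ρ⟩ := nonempty_push hdim f hbir h M hM hM1 hM0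
  have h0 : Subsingleton (Dual.inD A ωA ⟶ (Dual.inD A ωA)⟦(1 : ℤ)⟧) := hω.ext_self_subsingleton 1 (by norm_num)
  have h1 : Subsingleton ((DCoh.Rpush f).obj (DCoh.inD X M) ⟶ WA.obj⟦(1 : ℤ)⟧) :=
    (RGam.subsingleton_hom_iff (A := A) ρ eW.symm 1).2 h0
  have h2 : Subsingleton (((DCoh.Rpush f).obj (DCoh.inD X M))⟦(-1 : ℤ)⟧ ⟶ WA.obj) :=
    subsingleton_of_shift (-1 : ℤ) h1
  let P : DCoh.DQCoh X := ⟨(DCoh.inD X M)⟦(-1 : ℤ)⟧,
    DQCohBasic.isQCohD_shift (TopRepBound.isQCohD_single hM.1 _) _⟩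
  have h3 : Subsingleton ((DCoh.Rpush f).obj P.obj ⟶ WA.obj) :=
    subsingleton_of_iso (DQCohBasic.rpushShiftIso f (DCoh.inD X M) (-1)).symm (Iso.refl _) h2
  have h4 : Subsingleton (P.obj ⟶ ((DCoh.shriek f h).obj WA).obj) :=
    (AdjD.adjHom (DCoh.shriekAdj f h) P WA).symm.subsingleton
  exact (shiftHomEquiv (DCoh.inD X M) ((DCoh.shriek f h).obj WA).obj (-1)).symm.subsingleton

include hdim hbir hω h eW hM hM1 hM0 in
/-- A map `M → ω_X` inducing a bijection on global sections, and `Ext^1(M, ω_X) = 0`. -/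
theorem exists_map (hXO : Subsingleton (Coh.HH X (Coh.structureModule X) 1)) :
    ∃ φ : M ⟶ DCoh.HD ((DCoh.shriek f h).obj WA).obj 0,
      Function.Bijective (fun v : Coh.structureModule X ⟶ M => v ≫ φ) ∧
      Subsingleton (DCoh.inD X M ⟶ (DCoh.inD X (DCoh.HD ((DCoh.shriek f h).obj WA).obj 0))⟦(1 : ℤ)⟧) := by
  have hW := isGE_shriek hdim f hbir hω h WA eW
  obtain ⟨ρ⟩ := nonempty_push hdim f hbir h M hM hM1 hM0
  have hE := subsingleton_hom_shriek hdim f hbir hω h WA eW M hM hM1 hM0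
  obtain ⟨i, hi, hi1⟩ := exists_trunc_map ((DCoh.shriek f h).obj WA).obj
  have hSq : ∀ F : X.Modules, ((singleFunctor X.Modules 0).obj F).IsLE 0 := fun F => inferInstance
  let P : DCoh.DQCoh X := ⟨DCoh.inD X M, TopRepBound.isQCohD_single hM.1 _⟩
  obtain ⟨φ', hφ'⟩ := (TraceIso.bijective_trace h P WA).2 (ρ.inv ≫ eW.inv)
  obtain ⟨φ'', hφ''⟩ := (hi (DCoh.inD X M)).2 φ'
  obtain ⟨φ, hφ⟩ := (singleFunctor X.Modules 0).map_surjective φ''
  let : X.Over (Spec (CommRingCat.of A)) := ⟨f⟩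
  have : DCoh.HasRpush (X ↘ Spec (CommRingCat.of A)) := inferInstanceAs (DCoh.HasRpush f)
  have : IsProper (X ↘ Spec (CommRingCat.of A)) := inferInstanceAs (IsProper f)
  obtain ⟨L, ad, e, he⟩ := exists_adj (A := A) (X := X) (f := f) rfl
  obtain ⟨l⟩ := K374.ModBasic.nonempty_HH_zero hdim f hbir rfl
  obtain ⟨g, hg⟩ := TraceIso.exists_isIso_structure (A := A) (X := X) (f := f) rfl h l (fun q hq => by
    rcases eq_or_lt_of_le (show 1 ≤ q by omega) with rfl | hq'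
    · exact hXO
    · exact ModBasic.subsingleton_HH hdim f hbir _ (CurvesC.UnitCoh.isQCoh_unit X) q hq')
  have := isIso_unit ad e g
  have hb : ∀ K : DCoh.D X, Function.Bijective (fun u : OD X ⟶ K => (DCoh.Rpush f).map u) := fun K =>
    AdjIso.bijective_map_of_iso e (AdjIso.bijective_map_of_unit ad _ K)
  have hS : ∀ F G : X.Modules, Function.Bijective (fun v : F ⟶ G => (singleFunctor X.Modules 0).map v) := fun F G =>
    ⟨(singleFunctor X.Modules 0).map_injective, (singleFunctor X.Modules 0).map_surjective⟩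
  let O : DCoh.DQCoh X := ⟨OD X, isQCohD_OD X⟩
  have hF3 := TraceIso.bijective_trace h O WA
  have hF2 : Function.Bijective (fun u : OD X ⟶ DCoh.inD X M => u ≫ φ') := by
    rw [← Function.Bijective.of_comp_iff' hF3]
    have h1 : Function.Bijective (fun v : (DCoh.Rpush f).obj (OD X) ⟶ (DCoh.Rpush f).obj (DCoh.inD X M) =>
        v ≫ ρ.inv ≫ eW.inv) := by
      refine ⟨fun v w hvw => ?_, fun w => ⟨w ≫ eW.hom ≫ ρ.hom, by simp⟩⟩
      change v ≫ ρ.inv ≫ eW.inv = w ≫ ρ.inv ≫ eW.inv at hvw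
      rw [← Category.assoc, ← Category.assoc, cancel_mono, cancel_mono] at hvw
      exact hvw
    convert h1.comp (hb (DCoh.inD X M)) using 1
    funext u
    change (DCoh.Rpush f).map (u ≫ φ') ≫ _ = (DCoh.Rpush f).map u ≫ ρ.inv ≫ eW.inv
    rw [Functor.map_comp, Category.assoc]
    exact congrArg (fun t => (DCoh.Rpush f).map u ≫ t) hφ'
  refine ⟨φ, ?_, hi1 _ hE⟩
  have hF4 : Function.Bijective (fun v : Coh.structureModule X ⟶ DCoh.HD ((DCoh.shriek f h).obj WA).obj 0 =>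
      (singleFunctor X.Modules 0).map v ≫ i) := (hi (OD X)).comp (hS _ _)
  rw [← Function.Bijective.of_comp_iff' hF4]
  convert hF2.comp (hS (Coh.structureModule X) M) using 1
  funext v
  change (singleFunctor X.Modules 0).map (v ≫ φ) ≫ i = (singleFunctor X.Modules 0).map v ≫ φ'
  rw [Functor.map_comp, Category.assoc, hφ]
  exact congrArg (fun t => (singleFunctor X.Modules 0).map v ≫ t) hφ''

end K374.OmInv
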