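import Groth.Agent.LoccohB.TopBridge540
import Groth.Agent.PerfA.TildeSupp
import Groth.Agent.PerfA.TildeMain

/-!
# `RΓ(X, M)` as an object of `D(A)`
-/

set_option autoImplicit false
universe u
open CategoryTheory CategoryTheory.Limits AlgebraicGeometry TopologicalSpace Opposite Pretriangulated

attribute [local instance] HasDerivedCategory.standard

namespace K374.RGam

open Groth.Agent Groth.Agent.LoccohB Groth.Agent.LoccohB.TopBridge540 DerivedCategory Groth.Agent.CurvesC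

section General

variable {R : CommRingCat.{u}}

theorem isZero_Γ {M : (Spec R).Modules} (h : IsZero M) :
    IsZero ((moduleSpecΓFunctor (R := R)).obj M) :=
  Functor.map_isZero _ h

variable [PreservesFiniteLimits (tilde.functor R)]

/-- Morphisms in `D_QCoh(Spec R)` and in `D(R)`. -/
theorem subsingleton_hom_iff' {K L : DerivedCategory (ModuleCat.{u} R)} {G H : DCoh.D (Spec R)}
    (e : (DCoh.tildeD R).obj K ≅ G) (e' : (DCoh.tildeD R).obj L ≅ H) (i : ℤ) :
    Subsingleton (G ⟶ H⟦i⟧) ↔ Subsingleton (K ⟶ L⟦i⟧) := by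
  have h1 := (Equiv.ofBijective _ (PerfA.TildeMain.bijective_map R K (L⟦i⟧))).subsingleton_congr
  rw [h1]
  exact (Iso.homCongr e (((tilde.functor R).mapDerivedCategory.commShiftIso i).app L ≪≫
    (shiftFunctor _ i).mapIso e')).subsingleton_congr.symm

end General

variable {A : Type u} [CommRing A] [PreservesFiniteLimits (tilde.functor (CommRingCat.of A))]

/-- `H^i(K)` from the complex of sheaves. -/
noncomputable def HDiso {K : Dual.D A} {G : DCoh.D (Spec (CommRingCat.of A))}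
    (e : (DCoh.tildeD (CommRingCat.of A)).obj K ≅ G) (i : ℤ) :
    (ΓA A).obj (DCoh.HD G i) ≅ ModuleCat.of A (Dual.HD A K i) :=
  (ΓA A).mapIso ((homologyFunctor (Spec (CommRingCat.of A)).Modules i).mapIso e.symm ≪≫
    PerfA.TildeSupp.HDtilde (R := CommRingCat.of A) K i) ≪≫
    (tilde.toTildeΓNatIso (R := CommRingCat.of A)).symm.app _

theorem isZero_HD {K : Dual.D A} {G : DCoh.D (Spec (CommRingCat.of A))}
    (e : (DCoh.tildeD (CommRingCat.of A)).obj K ≅ G) (i : ℤ) (h : IsZero (DCoh.HD G i)) :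
    IsZero ((homologyFunctor (ModuleCat.{u} A) i).obj K) :=
  (isZero_Γ (R := CommRingCat.of A) h).of_iso (HDiso e i).symm

theorem isGE_of_iso {K : Dual.D A} {G : DCoh.D (Spec (CommRingCat.of A))}
    (e : (DCoh.tildeD (CommRingCat.of A)).obj K ≅ G) (a : ℤ) (h : G.IsGE a) : K.IsGE a := by
  rw [isGE_iff]
  exact fun i hi => isZero_HD e i (isZero_of_isGE G a i hi)

theorem isLE_of_iso {K : Dual.D A} {G : DCoh.D (Spec (CommRingCat.of A))}
    (e : (DCoh.tildeD (CommRingCat.of A)).obj K ≅ G) (a : ℤ) (h : G.IsLE a) : K.IsLE a := by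
  rw [isLE_iff]
  exact fun i hi => isZero_HD e i (isZero_of_isLE G a i hi)

theorem nonempty_HD {X : Scheme.{u}} [X.Over (Spec (CommRingCat.of A))]
    [DCoh.HasRpush (X ↘ Spec (CommRingCat.of A))] [QuasiCompact (X ↘ Spec (CommRingCat.of A))]
    [QuasiSeparated (X ↘ Spec (CommRingCat.of A))] (M : X.Modules)
    (hM : DCoh.IsQCohD (DCoh.inD X M)) {K : Dual.D A}
    (e : (DCoh.tildeD (CommRingCat.of A)).obj K ≅
      (DCoh.Rpush (X ↘ Spec (CommRingCat.of A))).obj (DCoh.inD X M)) (p : ℕ) :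
    Nonempty (Dual.HD A K (p : ℤ) ≃ₗ[A] Coh.HH X M p) :=
  ⟨(HDiso e (p : ℤ)).symm.toLinearEquiv ≪≫ₗ
    (βE A 0 (p : ℤ) p (by simp) hM).symm ≪≫ₗ HV.equiv A M p⟩

/-- Morphisms in `D_QCoh(Spec A)` and in `D(A)`. -/
theorem subsingleton_hom_iff {K L : Dual.D A} {G H : DCoh.D (Spec (CommRingCat.of A))}
    (e : (DCoh.tildeD (CommRingCat.of A)).obj K ≅ G) (e' : (DCoh.tildeD (CommRingCat.of A)).obj L ≅ H) (i : ℤ) :
    Subsingleton (G ⟶ H⟦i⟧) ↔ Subsingleton (K ⟶ L⟦i⟧) :=
  subsingleton_hom_iff' (R := CommRingCat.of A) e e' i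

end K374.RGam
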