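import Groth.Agent.Resolve.K374.ModBasic
import Groth.Agent.S2417
import Groth.Agent.S0002

/-!
# `H^i(X, F)`, `i > 0`, is `m`-power torsion for a modification; finite length for `F` coherent
-/

set_option autoImplicit false
universe u
open CategoryTheory CategoryTheory.Limits AlgebraicGeometry TopologicalSpace Opposite

namespace K374.Tors

open Groth.Agent K374.PtFib K374.ModBasic

variable {A : Type u} [CommRing A] [IsDomain A] [IsLocalRing A] [IsNoetherianRing A] [IsIntegrallyClosed A]
  (hdim : ringKrullDim A = 2) {X : Scheme.{u}} [X.Over (Spec (CommRingCat.of A))]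
  [IsProper (X ↘ Spec (CommRingCat.of A))] [IsIntegral X]
  (hbir : ∃ U : (Spec (CommRingCat.of A)).Opens, (U : Set (Spec (CommRingCat.of A))).Nonempty ∧
    IsIso ((X ↘ Spec (CommRingCat.of A)) ∣_ U))

omit [IsNoetherianRing A] [IsIntegrallyClosed A] [IsDomain A] [IsLocalRing A] [IsIntegral X] in
variable (A X) in
include A in
theorem isSeparated : X.IsSeparated := by
  rw [Scheme.isSeparated_iff, ← Limits.terminal.comp_from (X ↘ Spec (CommRingCat.of A))]
  infer_instance

omit [IsNoetherianRing A] [IsIntegrallyClosed A] [IsIntegral X] [IsDomain A] [IsLocalRing A]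
  [IsProper (X ↘ Spec (CommRingCat.of A))] in
theorem basicOpen_toGlobal (a : A) : X.basicOpen (Coh.toGlobal (X ↘ Spec (CommRingCat.of A)) a) =
    (X ↘ Spec (CommRingCat.of A)) ⁻¹ᵁ (PrimeSpectrum.basicOpen a : (Spec (CommRingCat.of A)).Opens) := by
  change X.basicOpen ((X ↘ Spec (CommRingCat.of A)).appTop ((Scheme.ΓSpecIso (CommRingCat.of A)).inv a)) = _
  rw [← Scheme.preimage_basicOpen_top]
  congr 1
  exact basicOpen_eq_of_affine (R := CommRingCat.of A) a

include hdim hbir in
/-- The complement of the closed fibre is covered by affine basic opens. -/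
theorem isAffineOpen_basicOpen (a : A) (ha : a ∈ IsLocalRing.maximalIdeal A) :
    IsAffineOpen (X.basicOpen (Coh.toGlobal (X ↘ Spec (CommRingCat.of A)) a)) := by
  rw [basicOpen_toGlobal]
  have hpun := isIso_punctured (X ↘ Spec (CommRingCat.of A)) hdim hbir
  let D : (Spec (CommRingCat.of A)).Opens := PrimeSpectrum.basicOpen a
  have hle : D ≤ punctured A := by
    intro x hx h0
    obtain rfl : x = IsLocalRing.closedPoint A := h0
    exact hx ha
  have h1 := Groth.Agent.CurvesC.ModDim.isIso_morphismRestrict_of_le (X ↘ Spec (CommRingCat.of A)) hle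
  have h2 : IsAffineOpen D := IsAffineOpen.Spec_basicOpen (R := CommRingCat.of A) a
  have : IsAffine D := h2
  exact IsAffine.of_isIso ((X ↘ Spec (CommRingCat.of A)) ∣_ D)

include hdim hbir in
/-- `H^i(X, M)` is `m`-power torsion for `i > 0`. -/
theorem exists_pow_smul_eq_zero (a : A) (ha : a ∈ IsLocalRing.maximalIdeal A) (M : X.Modules)
    (hM : Coh.IsQCoh M) (i : ℕ) (hi : 0 < i) (ξ : Coh.HH X M i) : ∃ n : ℕ, a ^ n • ξ = 0 := by
  have := isSeparated A X
  have : CompactSpace X := QuasiCompact.compactSpace_of_compactSpace (X ↘ Spec (CommRingCat.of A))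
  obtain ⟨n, hn⟩ := (S2417.result X (Coh.toGlobal (X ↘ Spec (CommRingCat.of A)) a)).1
    (isAffineOpen_basicOpen hdim hbir a ha) M i hi ξ
  refine ⟨n, ?_⟩
  change Coh.toGlobal (X ↘ Spec (CommRingCat.of A)) (a ^ n) • ξ = 0
  rw [map_pow]
  exact hn

omit [IsIntegral X] [IsDomain A] [IsLocalRing A] [IsIntegrallyClosed A] in
variable (A) in
theorem finite_HH (M : X.Modules) (hM : Coh.IsCoh M) (i : ℕ) : Module.Finite A (Coh.HH X M i) :=
  S0002.result A X M hM i

omit [IsDomain A] [IsLocalRing A] [IsIntegrallyClosed A] in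
/-- A finite module which is `m`-power torsion is killed by a power of `m`. -/
theorem exists_pow_smul_top_eq_bot (I : Ideal A) (N : Type u) [AddCommGroup N] [Module A N] [Module.Finite A N]
    (h : ∀ a ∈ I, ∀ x : N, ∃ n : ℕ, a ^ n • x = 0) :
    ∃ n : ℕ, ∀ a ∈ I ^ n, ∀ x : N, a • x = 0 := by
  classical
  have h1 : I ≤ (Module.annihilator A N).radical := by
    intro a ha
    obtain ⟨s, hs⟩ := Module.Finite.fg_top (R := A) (M := N)
    choose n hn using fun x : N => h a ha x
    refine ⟨∑ x ∈ s, n x, ?_⟩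
    rw [Module.mem_annihilator]
    have h2 : ∀ x ∈ s, a ^ (∑ x ∈ s, n x) • x = 0 := by
      intro x hx
      rw [← Finset.sum_erase_add _ _ hx, pow_add, mul_smul, hn, smul_zero]
    have h3 : (⊤ : Submodule A N) ≤ LinearMap.ker (LinearMap.lsmul A N (a ^ (∑ x ∈ s, n x))) := by
      rw [← hs, Submodule.span_le]
      exact fun x hx => h2 x hx
    exact fun x => h3 (Submodule.mem_top : x ∈ ⊤)
  obtain ⟨n, hn⟩ := Ideal.exists_pow_le_of_le_radical_of_fg h1 (IsNoetherian.noetherian I)
  exact ⟨n, fun a ha x => Module.mem_annihilator.1 (hn ha) x⟩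

end K374.Tors
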