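import Groth.Agent.LoccohB.TopRepBound
import Groth.Agent.LoccohB.AmpTop290
import Groth.Agent.S1767
import Groth.Agent.Resolve.K374.Tors
import Groth.Agent.Resolve.K374.RGam
import Groth.Agent.Resolve.K374.OmegaA
import Groth.Agent.Resolve.K374.GRDer

/-!
# `f^! ω_A` is in degrees `≥ 0` for a modification
-/

set_option autoImplicit false
universe u
open CategoryTheory CategoryTheory.Limits AlgebraicGeometry TopologicalSpace Opposite Pretriangulated

attribute [local instance] HasDerivedCategory.standard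

namespace K374.ShriekGE

open Groth.Agent Groth.Agent.LoccohB Groth.Agent.LoccohB.TopBridge540 DerivedCategory Groth.Agent.CurvesC

section Tilde

variable {A : Type u} [CommRing A] [IsDomain A] [IsLocalRing A] [IsNoetherianRing A]
  (hdim : ringKrullDim A = 2) {ωA : Type u} [AddCommGroup ωA] [Module A ωA]
  (hω : Dual.IsDualizing A (Dual.inD A ωA))

include hdim hω in
/-- A torsion quasi-coherent sheaf has no map to the dualizing sheaf. -/
theorem subsingleton_to_omega (T V : (Spec (CommRingCat.of A)).Modules) (hT : Coh.IsQCoh T)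
    (htor : ∀ t : (ΓA A).obj T, ∃ a : A, a ≠ 0 ∧ a • t = 0)
    (eV : V ≅ (tilde.functor (CommRingCat.of A)).obj (ModuleCat.of A ωA)) : Subsingleton (T ⟶ V) := by
  let eΓ : (ΓA A).obj V ≅ ModuleCat.of A ωA :=
    (ΓA A).mapIso eV ≪≫ (tilde.toTildeΓNatIso (R := CommRingCat.of A)).symm.app _
  have h1 := map_bijective (CommRingCat.of A) T V hT
  have h2 : Subsingleton ((ΓA A).obj T ⟶ (ΓA A).obj V) := by
    suffices ∀ g : (ΓA A).obj T ⟶ (ΓA A).obj V, g = 0 from ⟨fun x y => (this x).trans (this y).symm⟩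
    intro g
    refine ModuleCat.hom_ext (LinearMap.ext fun t => ?_)
    obtain ⟨a, ha, hat⟩ := htor t
    have h3 : eΓ.toLinearEquiv (g.hom t) = 0 := by
      apply OmegaA.torsionFree hdim hω a ha
      rw [← map_smul, ← map_smul, hat, map_zero, map_zero]
    exact (LinearEquiv.map_eq_zero_iff _).1 h3
  exact (Equiv.ofBijective _ h1).subsingleton

end Tilde

section Main

variable {A : Type u} [CommRing A] [IsDomain A] [IsLocalRing A] [IsNoetherianRing A] [IsIntegrallyClosed A]
  (hdim : ringKrullDim A = 2) {X : Scheme.{u}} (f : X ⟶ Spec (CommRingCat.of A)) [IsProper f] [IsIntegral X]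
  (hbir : ∃ U : (Spec (CommRingCat.of A)).Opens, (U : Set (Spec (CommRingCat.of A))).Nonempty ∧ IsIso (f ∣_ U))
  {ωA : Type u} [AddCommGroup ωA] [Module A ωA] (hω : Dual.IsDualizing A (Dual.inD A ωA))
  [PreservesFiniteLimits (tilde.functor (CommRingCat.of A))]
  [DCoh.HasRpush f] (h : DCoh.RpushPreservesQCoh f) [DCoh.HasShriek f h]
  (WA : DCoh.DQCoh (Spec (CommRingCat.of A)))
  (eW : WA.obj ≅ (DCoh.tildeD (CommRingCat.of A)).obj (Dual.inD A ωA))

omit [IsDomain A] [IsLocalRing A] [IsNoetherianRing A] [IsIntegrallyClosed A] in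
include eW in
theorem isGE_WA : WA.obj.IsGE 0 :=
  PerfC.RpushTrunc.isGE_of_iso
    ((eW ≪≫ GRDer.tildeSingle (CommRingCat.of A) (ModuleCat.of A ωA)).symm) 0

/-- `H^0(W_A) ≅ ω~`. -/
noncomputable def H0WA : DCoh.HD WA.obj 0 ≅ (tilde.functor (CommRingCat.of A)).obj (ModuleCat.of A ωA) :=
  (homologyFunctor (Spec (CommRingCat.of A)).Modules 0).mapIso
    (eW ≪≫ GRDer.tildeSingle (CommRingCat.of A) (ModuleCat.of A ωA)) ≪≫
    (singleFunctorCompHomologyFunctorIso _ 0).app _

include hdim hbir in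
theorem hle (F : X.Modules) (hF : Coh.IsCoh F) (j : ℤ) :
    ((DCoh.Rpush f).obj ((singleFunctor X.Modules j).obj F)).IsLE (j + (1 : ℕ)) := by
  obtain ⟨U, hU, hfU⟩ := hbir
  have hd : topologicalKrullDim (f.fiber (IsLocalRing.closedPoint A)) ≤ ((1 : ℕ) : WithBot ℕ∞) :=
    CurvesC.ModDim.topologicalKrullDim_fiber_le 1 (by rw [hdim]; rfl) f U hU (IsLocalRing.closedPoint A) rfl
  exact AmpTop290.isLE_Rpush_single f 1 hd F hF j _ le_rfl

include hdim hbir hω eW h in
omit [DCoh.HasShriek f h] in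
/-- `Hom(F[1], f^! ω) = 0`. -/
theorem subsingleton_hom_coh (F : X.Modules) (hF : Coh.IsCoh F) :
    Subsingleton ((DCoh.Rpush f).obj ((singleFunctor X.Modules (-1)).obj F) ⟶ WA.obj) := by
  let : X.Over (Spec (CommRingCat.of A)) := ⟨f⟩
  have : DCoh.HasRpush (X ↘ Spec (CommRingCat.of A)) := inferInstanceAs (DCoh.HasRpush f)
  have : IsProper (X ↘ Spec (CommRingCat.of A)) := inferInstanceAs (IsProper f)
  have h1 : ((DCoh.Rpush f).obj ((singleFunctor X.Modules (-1)).obj F)).IsLE 0 := hle hdim f hbir F hF (-1)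
  have h2 := isGE_WA WA eW
  have hQ : DCoh.IsQCohD ((singleFunctor X.Modules (-1)).obj F) := TopRepBound.isQCohD_single hF.1 _
  refine (DCalc.homEquiv 0 _ _).toEquiv.subsingleton_congr.2 ?_
  refine subsingleton_to_omega hdim hω _ _ (h _ hQ 0) (fun t => ?_) (H0WA WA eW)
  obtain ⟨a, ha, ha0⟩ : ∃ a ∈ IsLocalRing.maximalIdeal A, a ≠ 0 := by
    by_contra! hcon
    have h3 : IsField A := by
      rw [IsLocalRing.isField_iff_maximalIdeal_eq, eq_bot_iff]
      exact fun x hx => hcon x hx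
    rw [ringKrullDim_eq_zero_of_isField h3] at hdim
    exact absurd hdim (by decide)
  let e := (βE A (X := X) (-1) 0 1 (by norm_num) hQ).symm ≪≫ₗ HV.equiv A F 1
  obtain ⟨n, hn⟩ := Tors.exists_pow_smul_eq_zero (X := X) hdim hbir a ha F hF.1 1 one_pos (e t)
  refine ⟨a ^ n, pow_ne_zero n ha0, ?_⟩
  exact e.injective ((e.map_smul (a ^ n) t).trans (hn.trans (map_zero e).symm))

include hdim hbir hω eW in
/-- `f^! ω_A ∈ D^{≥ 0}`. -/
theorem isGE_shriek : ((DCoh.shriek f h).obj WA).obj.IsGE 0 := by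
  have hlN : IsLocallyNoetherian X := LocallyOfFiniteType.isLocallyNoetherian f
  have hcX : CompactSpace X := QuasiCompact.compactSpace_of_compactSpace f
  have hN : IsNoetherian X := {}
  have hW := isGE_WA WA eW
  obtain ⟨N, hN1⟩ := Groth.Agent.S1767.result X (Spec (CommRingCat.of A)) f h (DCoh.shriek f h)
    (DCoh.shriekAdj f h)
  have hK : ((DCoh.shriek f h).obj WA).obj.IsGE (-(N : ℤ)) := by
    rw [isGE_iff]
    intro i hi
    exact hN1 WA (-1) (fun j hj => isZero_of_isGE WA.obj 0 j (by omega)) i (by omega)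
  have h1 : ((DCoh.shriek f h).obj WA).obj.IsGE (-1) :=
    TopRepBound.isGE_a (DCoh.shriekAdj f h) 1 (hle hdim f hbir) WA (-1) 0 (-(N : ℤ)) (by norm_num) hW hK
  rw [isGE_iff]
  intro i hi
  rcases lt_or_ge i (-1) with hi' | hi'
  · exact isZero_of_isGE _ (-1) i hi'
  obtain rfl : i = -1 := by omega
  refine TopRepBound.isZero_of_hom_coh _ (((DCoh.shriek f h).obj WA).property (-1)) fun F hF φ => ?_
  let F' : DCoh.DQCoh X := ⟨(singleFunctor X.Modules (-1)).obj F, TopRepBound.isQCohD_single hF.1 _⟩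
  have h2 : Subsingleton ((DCoh.Rpush f).obj F'.obj ⟶ WA.obj) :=
    subsingleton_hom_coh hdim f hbir hω h WA eW F hF
  have h3 : Subsingleton (F'.obj ⟶ ((DCoh.shriek f h).obj WA).obj) :=
    (AdjD.adjHom (DCoh.shriekAdj f h) F' WA).symm.subsingleton
  apply (AdjD.single_hom_bijective (-1) ((DCoh.shriek f h).obj WA).obj F).1
  exact h3.elim _ _

end Main

end K374.ShriekGE
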