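import Groth.Agent.Resolve.K372.PowSec
import Groth.Agent.Resolve.K372.QCohVan
import Groth.Agent.CohqA.HBiprod
import Groth.Agent.Dcoh.MonClosed
import Groth.Agent.Ega1.TensorRestrict
import Groth.Agent.Ega2.TensMon

/-!
# Vanishing of `H^1` for twists by powers of an extended ideal
-/

set_option autoImplicit false
universe u
open CategoryTheory CategoryTheory.Limits AlgebraicGeometry

namespace K374.TwistVan

open Groth.Agent Groth.Agent.CurvesC Groth.Agent.CurvesC.ExtIdeal Groth.Agent.CurvesC.KoszulOne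
  Groth.Agent.CohqB.HSeqMod

attribute [local instance] Abelian.hasFiniteBiproducts

section tens

variable {X : Scheme.{u}}

theorem isLeftAdjoint (M : X.Modules) : (DCoh.tensorBi.obj M).IsLeftAdjoint :=
  ⟨_, ⟨Dcoh.MonClosed.tensorBiHomAdj M⟩⟩

theorem epi_map (M : X.Modules) {N N' : X.Modules} (e : N ⟶ N') [Epi e] :
    Epi ((DCoh.tensorBi.obj M).map e) := by
  have := isLeftAdjoint M
  infer_instance

theorem nonempty_iso_biproduct (M : X.Modules) {r : ℕ} (N : Fin r → X.Modules) :
    Nonempty ((DCoh.tensorBi.obj M).obj (⨁ N) ≅ ⨁ fun i => CohB1.tensorMod M (N i)) := by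
  have := isLeftAdjoint M
  have h2 : PreservesFiniteColimits (DCoh.tensorBi.obj M) := inferInstance
  have h3 : PreservesBinaryBiproducts (DCoh.tensorBi.obj M) := preservesBinaryBiproducts_of_preservesBinaryCoproducts _
  have h1 : (DCoh.tensorBi.obj M).Additive := Functor.additive_of_preservesBinaryBiproducts _
  exact ⟨(DCoh.tensorBi.obj M).mapBiproduct N⟩

theorem subsingleton_of_iso' {M N : X.Modules} (e : M ≅ N) (n : ℕ) (h : Subsingleton (Coh.HH X M n)) :
    Subsingleton (Coh.HH X N n) := by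
  refine ⟨fun x y => ?_⟩
  have h1 : ∀ z : Coh.HH X N n, hmap e.hom n (hmap e.inv n z) = z := fun z => by
    rw [← hmap_comp_apply, e.inv_hom_id, hmap_id_apply]
  rw [← h1 x, ← h1 y]
  exact congrArg _ (Subsingleton.elim _ _)

end tens

variable {A : Type u} [CommRing A] [IsDomain A] [IsLocalRing A] [IsNoetherianRing A]
  (hdim : ringKrullDim A = 2) {X : Scheme.{u}} [IsIntegral X]
  (f : X ⟶ Spec (CommRingCat.of A)) [IsProper f]
  (hbir : ∃ U : (Spec (CommRingCat.of A)).Opens, (U : Set (Spec (CommRingCat.of A))).Nonempty ∧ IsIso (f ∣_ U))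

include hdim hbir

theorem subsingleton_tensor_span {r : ℕ} (a : Fin r → A) (G : X.Modules) (hG : Coh.IsQCoh G)
    (h : Subsingleton (Coh.HH X G 1)) :
    Subsingleton (Coh.HH X (CohB1.tensorMod G (extMod f (I a))) 1) := by
  have := epi_σ f a 0
  have hE : Epi ((DCoh.tensorBi.obj G).map (σ f a 0)) := epi_map G _
  obtain ⟨e⟩ := nonempty_iso_biproduct G (fun _ : Fin r => L f a 0)
  have hI : ∀ n, Coh.IsQCoh (L f a n) := fun n => (PowSections.isCoh_extMod f _).1
  have h0 : Nonempty (L f a 0 ≅ Coh.structureModule X) := by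
    have h1 : IsIso (ClSub.idealModι (ext f ((I a) ^ 0))) := by
      rw [pow_zero, Ideal.one_eq_top]
      exact PowSections.isIso_idealModι_top f
    exact ⟨asIso (ClSub.idealModι (ext f ((I a) ^ 0)))⟩
  obtain ⟨e0⟩ := h0
  have h1 : Subsingleton (Coh.HH X (⨁ fun _ : Fin r => CohB1.tensorMod G (L f a 0)) 1) :=
    CohqA.HBiprod.subsingleton_HH_biproduct _ 1 fun _ =>
      subsingleton_of_iso' (((DCoh.tensorBi.obj G).mapIso e0 ≪≫ Ega2.Tens.runit G)).symm 1 h
  have h2 := subsingleton_of_iso' e.symm 1 h1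
  have h3 := K372.QCohVan.subsingleton_of_epi hdim f hbir (G := (DCoh.tensorBi.obj G).obj (⨁ fun _ : Fin r => L f a 0))
    (F := (DCoh.tensorBi.obj G).obj (L f a (0 + 1)))
    (Ega1.TensorRestrict.isQCoh_tensorMod _ _ hG (CohqA.HBiprod.isQCoh_biproduct _ fun _ => hI 0))
    (Ega1.TensorRestrict.isQCoh_tensorMod _ _ hG (hI 1)) ((DCoh.tensorBi.obj G).map (σ f a 0)) h2
  have h4 : L f a (0 + 1) = extMod f (I a) := by
    unfold L
    rw [zero_add, pow_one]
  rw [← h4]
  exact h3

theorem subsingleton_tensor (J : Ideal A) (G : X.Modules) (hG : Coh.IsQCoh G)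
    (h : Subsingleton (Coh.HH X G 1)) :
    Subsingleton (Coh.HH X (CohB1.tensorMod G (extMod f J)) 1) := by
  obtain ⟨r, a, ha⟩ := Submodule.fg_iff_exists_fin_generating_family.mp (IsNoetherian.noetherian J)
  have ha : I a = J := ha
  rw [← ha]
  exact subsingleton_tensor_span hdim f hbir a G hG h

/-- `H^1(X, G ⊗ (J O_X)^{⊗ n}) = 0` if `H^1(X, G) = 0`. -/
theorem subsingleton_tensorPow (J : Ideal A) (G : X.Modules) (hG : Coh.IsQCoh G)
    (h : Subsingleton (Coh.HH X G 1)) (n : ℕ) :
    Subsingleton (Coh.HH X (CohB1.tensorMod G (CohB1.tensorPow (extMod f J) n)) 1) := by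
  have hq : ∀ n, Coh.IsQCoh (CohB1.tensorPow (extMod f J) n) := by
    intro n
    induction n with
    | zero => exact Groth.Agent.PerfA.QCohSerre.isQCoh_unit X
    | succ n ih => exact Ega1.TensorRestrict.isQCoh_tensorMod _ _ ih (PowSections.isCoh_extMod f _).1
  induction n with
  | zero => exact subsingleton_of_iso' (Ega2.Tens.runit G).symm 1 h
  | succ n ih =>
    exact subsingleton_of_iso' (Ega2.Tens.assoc G (CohB1.tensorPow (extMod f J) n) (extMod f J)) 1
      (subsingleton_tensor hdim f hbir J _ (Ega1.TensorRestrict.isQCoh_tensorMod _ _ hG (hq n)) ih)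

end K374.TwistVan
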